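import Mathlib
import Cfsg.Agent.Lib.Helper13.S93Defs

/-!
# S3493, piece S93-AREG: case A (the minimal normal subgroup has a nontrivial centralizer)
-/

set_option autoImplicit false

namespace Cfsg.Agent.Helper13.S93

open MulAction Cfsg.Agent.S0721

universe u v

section R

variable {G : Type u} [Group G] {Ω : Type v} [MulAction G Ω]

/-- [A-REG] -/
theorem caseA_regular [FaithfulSMul G Ω] (hprim : IsPreprimitive G Ω) (N : Subgroup G)
    (hNn : N.Normal) (hN : N ≠ ⊥) (hC : Subgroup.centralizer (N : Set G) ≠ ⊥) (α : Ω) :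
    ∀ ω : Ω, ∃! t : ↥N, (t : G) • α = ω := by
  have := hprim
  have := hNn
  have hCt : IsPretransitive (Subgroup.centralizer (N : Set G)) Ω :=
    Cfsg.Agent.S3680.trans_of_normal _ hC
  have hNt : IsPretransitive N Ω := Cfsg.Agent.S3680.trans_of_normal _ hN
  have hcomm : ∀ a ∈ Subgroup.centralizer (N : Set G), ∀ b ∈ N, a * b = b * a := by
    intro a ha b hb
    exact (Subgroup.mem_centralizer_iff.1 ha b hb).symm
  have hsr : ∀ b ∈ N, b • α = α → b = 1 := fun b hb hfix =>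
    Cfsg.Agent.S3680.semireg_of_commute (Subgroup.centralizer (N : Set G)) N hcomm α b hb hfix
  intro ω
  obtain ⟨t, ht⟩ := hNt.exists_smul_eq α ω
  refine ⟨t, ht, ?_⟩
  intro t' ht'
  have ht1 : (t : G) • α = ω := ht
  have h1 : ((t : G)⁻¹ * (t' : G)) = 1 := by
    apply hsr _ (N.mul_mem (N.inv_mem t.2) t'.2)
    rw [mul_smul, ht', ← ht1, inv_smul_smul]
  apply Subtype.ext
  have h2 : (t' : G) = (t : G) * ((t : G)⁻¹ * (t' : G)) := by group
  rw [h2, h1, mul_one]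

/-- [A-INNER] -/
theorem caseA_inner [FaithfulSMul G Ω] (hprim : IsPreprimitive G Ω) (N : Subgroup G)
    (hNn : N.Normal) (hC : Subgroup.centralizer (N : Set G) ≠ ⊥) (α : Ω)
    (hreg : ∀ ω : Ω, ∃! t : ↥N, (t : G) • α = ω)
    (β : ↥(stabilizer G α) →* Equiv.Perm ↥N)
    (hβ : ∀ (k : ↥(stabilizer G α)) (t : ↥N), ((β k t : ↥N) : G) • α = (k : G) • ((t : G) • α))
    (g : ↥N) : ∃ k : ↥(stabilizer G α), ∀ y : ↥N, β k y = g * y * g⁻¹ := by
  have := hprim
  have := hNn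
  have hCt : IsPretransitive (Subgroup.centralizer (N : Set G)) Ω :=
    Cfsg.Agent.S3680.trans_of_normal _ hC
  obtain ⟨c, hc⟩ := hCt.exists_smul_eq α ((g : G)⁻¹ • α)
  have hc' : (c : G) • α = (g : G)⁻¹ • α := hc
  have hk : (g : G) * (c : G) ∈ stabilizer G α := by
    rw [mem_stabilizer_iff, mul_smul, hc', smul_inv_smul]
  refine ⟨⟨(g : G) * (c : G), hk⟩, ?_⟩
  intro y
  have h1 := hβ ⟨(g : G) * (c : G), hk⟩ y
  have hcy : (c : G) * (y : G) = (y : G) * (c : G) :=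
    (Subgroup.mem_centralizer_iff.1 c.2 (y : G) y.2).symm
  have h2 : ((g : G) * (c : G)) • ((y : G) • α) = ((g * y * g⁻¹ : ↥N) : G) • α := by
    rw [← mul_smul, mul_assoc, hcy, ← mul_assoc, mul_smul, hc', ← mul_smul]
    rfl
  obtain ⟨t, -, huniq⟩ := hreg (((g * y * g⁻¹ : ↥N) : G) • α)
  have e1 : β ⟨(g : G) * (c : G), hk⟩ y = t := huniq _ (h1.trans h2)
  have e2 : g * y * g⁻¹ = t := huniq _ rfl
  rw [e1, e2]

end R

end Cfsg.Agent.Helper13.S93
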