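import Mathlib
import Cfsg.Agent.Lib.Helper13.S93Defs

set_option autoImplicit false

namespace Cfsg.Agent.Helper13.S93

open MulAction Cfsg.Agent.S0721

universe u v

section R

variable {G : Type u} [Group G] {Ω : Type v} [MulAction G Ω]

variable {α : Ω} {N T : Subgroup G}

/-- [R-DICH] -/
theorem dich (h : BCtx α N T) (g g' : G) :
    cj g T = cj g' T ∨
      (cj g T ⊓ cj g' T = ⊥ ∧ ∀ a ∈ cj g T, ∀ b ∈ cj g' T, a * b = b * a) := by
  haveI := h.normal
  have h1 := isMinIn_cj h.minIn g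
  have h2 := isMinIn_cj h.minIn g'
  by_cases hle : cj g T ≤ cj g' T
  · left
    rcases h2.2.2.2 _ hle h1.2.2.1 with hb | he
    · exact (h1.1 hb).elim
    · exact he
  · right
    have hd := isMinIn_inf_eq_bot h1 h2.2.2.1 hle
    exact ⟨hd, commute_of_disjoint h1.2.1 h2.2.1 h1.2.2.1 h2.2.2.1 hd⟩

/-- [R-CJN] -/
theorem cj_of_mem_N (h : BCtx α N T) (g n : G) (hn : n ∈ N) : cj n (cj g T) = cj g T := by
  haveI := h.normal
  have h1 := (isMinIn_cj h.minIn g).2.2.1
  ext x
  rw [mem_cj]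
  constructor
  · intro hx
    have := h1 n hn _ hx
    have e : n * (n⁻¹ * x * n) * n⁻¹ = x := by group
    rwa [e] at this
  · intro hx
    have := h1 n⁻¹ (N.inv_mem hn) _ hx
    rwa [inv_inv] at this

/-- [R-CJLE] -/
theorem cj_le_N (h : BCtx α N T) (g : G) : cj g T ≤ N := by
  haveI := h.normal
  exact (isMinIn_cj h.minIn g).2.1

end R

end Cfsg.Agent.Helper13.S93
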