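import Mathlib
import Cfsg.Agent.Lib.Helper13.S93Defs
import Cfsg.Agent.Lib.S93.S93RDICH

/-!
# S3493 piece S93-B1FINAL: `b1_final`
-/

set_option autoImplicit false

namespace Cfsg.Agent.Helper13.S93

open MulAction Cfsg.Agent.S0721

universe u v

section R

variable {G : Type u} [Group G] {Ω : Type v} [MulAction G Ω]

/-- the stabilizer of a point in a primitive group on at least two points is a maximal subgroup -/
theorem s93_b1final_coatom (hprim : IsPreprimitive G Ω) (hnt : ∃ a b : Ω, a ≠ b) (α : Ω)
    (L : Subgroup G) (hL : stabilizer G α ≤ L) : L = stabilizer G α ∨ L = ⊤ := by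
  haveI := hprim
  haveI : Nontrivial Ω := by
    obtain ⟨a, b, hab⟩ := hnt
    exact ⟨⟨a, b, hab⟩⟩
  have hco : IsCoatom (stabilizer G α) := (isCoatom_stabilizer_iff_preprimitive (G := G) (X := Ω) α).2 hprim
  rcases (hco.le_iff).1 hL with h1 | h1
  · exact Or.inr h1
  · exact Or.inl h1

/-- a subgroup generated by pairwise commuting elements is commutative -/
theorem s93_b1final_closure_comm (S : Set G) (hS : ∀ x ∈ S, ∀ y ∈ S, x * y = y * x) :
    ∀ a ∈ Subgroup.closure S, ∀ b ∈ Subgroup.closure S, a * b = b * a := by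
  have h1 : Subgroup.closure S ≤ Subgroup.centralizer S := by
    rw [Subgroup.closure_le]
    intro x hx
    rw [SetLike.mem_coe, Subgroup.mem_centralizer_iff]
    intro y hy
    exact hS y hy x hx
  intro a ha b hb
  have h2 : Subgroup.closure S ≤ Subgroup.centralizer ({a} : Set G) := by
    rw [Subgroup.closure_le]
    intro x hx
    rw [SetLike.mem_coe, Subgroup.mem_centralizer_iff]
    intro y hy
    rw [Set.mem_singleton_iff] at hy
    subst hy
    have := (Subgroup.mem_centralizer_iff.1 (h1 ha)) x hx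
    exact this.symm
  have := (Subgroup.mem_centralizer_iff.1 (h2 hb)) a (Set.mem_singleton a)
  exact this

variable {α : Ω} {N T : Subgroup G}

/-- [B1-FINAL] -/
theorem b1_final [Finite G] [FaithfulSMul G Ω] (h : BCtx α N T) (hTN : T ≠ N)
    (hR : stabilizer G α ⊓ N = ⊥)
    (hL : ∀ k ∈ stabilizer G α, cj k T = T → ∀ t ∈ T, k * t = t * k) : False := by
  haveI := h.normal
  have hNn : N.Normal := h.normal
  -- a nontrivial element of `T`
  have hTne : T ≠ ⊥ := h.minIn.1
  obtain ⟨t, htT', ht1'⟩ : ∃ t ∈ T, t ≠ 1 := by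
    by_contra hcon
    simp only [not_exists, not_and, not_not] at hcon
    apply hTne
    rw [Subgroup.eq_bot_iff_forall]
    exact hcon
  have htN : t ∈ N := h.minIn.2.1 htT'
  set S : Set G := {x | ∃ k ∈ stabilizer G α, x = k * t * k⁻¹} with hS
  set M : Subgroup G := Subgroup.closure S with hM
  -- generators commute
  have hScomm : ∀ x ∈ S, ∀ y ∈ S, x * y = y * x := by
    rintro x ⟨k, hk, rfl⟩ y ⟨k', hk', rfl⟩
    rcases dich h k k' with he | ⟨-, hc⟩
    · -- same conjugate: equal elements
      have hl : cj (k'⁻¹ * k) T = T := by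
        rw [← cj_cj, he, cj_cj, inv_mul_cancel, cj_one]
      have hcomm := hL (k'⁻¹ * k) (Subgroup.mul_mem _ (Subgroup.inv_mem _ hk') hk) hl t htT'
      have heq : k * t * k⁻¹ = k' * t * k'⁻¹ := by
        have e1 : k * t * k⁻¹ = k' * ((k'⁻¹ * k) * t) * k⁻¹ := by group
        rw [e1, hcomm]; group
      rw [heq]
    · exact hc _ (conj_mem_cj k T t htT') _ (conj_mem_cj k' T t htT')
  have hMcomm := s93_b1final_closure_comm S hScomm
  -- `M ≤ N`
  have hMN : M ≤ N := by
    rw [hM, Subgroup.closure_le]
    rintro x ⟨k, -, rfl⟩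
    exact hNn.conj_mem t htN k
  -- `t ∈ M`
  have htM : t ∈ M := by
    apply Subgroup.subset_closure
    refine ⟨1, Subgroup.one_mem _, ?_⟩
    group
  have hMne : M ≠ ⊥ := by
    intro hb
    rw [hb, Subgroup.mem_bot] at htM
    exact ht1' htM
  -- `K` normalizes `M`
  have hKconj : ∀ k₀ ∈ stabilizer G α, ∀ x ∈ M, k₀ * x * k₀⁻¹ ∈ M := by
    intro k₀ hk₀
    have hle : M ≤ M.comap (MulAut.conj k₀).toMonoidHom := by
      rw [hM, Subgroup.closure_le]
      rintro x ⟨k, hk, rfl⟩
      rw [SetLike.mem_coe, Subgroup.mem_comap]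
      apply Subgroup.subset_closure
      refine ⟨k₀ * k, Subgroup.mul_mem _ hk₀ hk, ?_⟩
      simp only [MulEquiv.coe_toMonoidHom, MulAut.conj_apply]
      group
    intro x hx
    have := hle hx
    rw [Subgroup.mem_comap] at this
    simpa using this
  have hKle : stabilizer G α ≤ Subgroup.normalizer (M : Set G) := by
    intro k₀ hk₀
    rw [Subgroup.mem_normalizer_iff]
    intro x
    constructor
    · exact hKconj k₀ hk₀ x
    · intro hx
      have := hKconj k₀⁻¹ (Subgroup.inv_mem _ hk₀) _ hx
      have e : k₀⁻¹ * (k₀ * x * k₀⁻¹) * k₀⁻¹⁻¹ = x := by group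
      rwa [e] at this
  -- `t` normalizes `M` but is not in `K`
  have htnorm : t ∈ Subgroup.normalizer (M : Set G) := by
    rw [Subgroup.mem_normalizer_iff]
    intro x
    constructor
    · intro hx
      have : t * x * t⁻¹ = x := by
        rw [hMcomm t htM x hx]; group
      rw [this]; exact hx
    · intro hx
      have h1 := hMcomm t htM _ hx
      have h2 : t * x * t⁻¹ = x := by
        have e : (t * x * t⁻¹) * t = t * x := by group
        rw [e] at h1
        exact mul_left_cancel h1
      rw [← h2]; exact hx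
  have htK : t ∉ stabilizer G α := by
    intro htK
    have : t ∈ stabilizer G α ⊓ N := ⟨htK, htN⟩
    rw [hR, Subgroup.mem_bot] at this
    exact ht1' this
  -- `Ω` has two points
  have hnt : ∃ a b : Ω, a ≠ b := by
    by_contra hcon
    simp only [not_exists, not_not] at hcon
    apply ht1'
    apply FaithfulSMul.eq_of_smul_eq_smul (α := Ω)
    intro ω
    rw [one_smul]
    exact hcon _ _
  rcases s93_b1final_coatom h.prim hnt α _ hKle with h1 | h1
  · apply htK
    rw [← h1]
    exact htnorm
  · -- `M` is normal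
    have hMnormal : M.Normal := Subgroup.normalizer_eq_top_iff.1 h1
    rcases h.min M hMnormal hMN with h2 | h2
    · exact hMne h2
    · obtain ⟨a, ha, b, hb, hab⟩ := h.noncomm
      rw [← h2] at ha hb
      exact hab (hMcomm a ha b hb)

end R

end Cfsg.Agent.Helper13.S93
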