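import Mathlib
import Cfsg.Agent.Lib.Helper13.S93Defs
import Cfsg.Agent.Lib.S93.S93RDICH

/-! S3493 farm-out (designer helper13), piece S93-B1PROJ: the projection `Proj` is closed under products,
inverses and `T`-conjugation. -/

set_option autoImplicit false

namespace Cfsg.Agent.Helper13.S93

open MulAction Cfsg.Agent.S0721

universe u v

section R

variable {G : Type u} [Group G] {Ω : Type v} [MulAction G Ω]

variable {α : Ω} {N T : Subgroup G}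

/-- [B1-PROJMUL] -/
theorem proj_mul (h : BCtx α N T) (t t' : G) (ht : t ∈ T) (ht' : t' ∈ T) (hp : Proj α N T t)
    (hp' : Proj α N T t') : Proj α N T (t * t') := by
  obtain ⟨e, he, hte⟩ := hp
  obtain ⟨e', he', hte'⟩ := hp'
  refine ⟨e * e', (N ⊓ Subgroup.centralizer (T : Set G)).mul_mem he he', ?_⟩
  have hc : t' * e = e * t' := Subgroup.mem_centralizer_iff.1 he.2 t' ht'
  have h1 : t * t' * (e * e') = (t * e) * (t' * e') := by
    calc t * t' * (e * e') = t * (t' * e) * e' := by group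
      _ = t * (e * t') * e' := by rw [hc]
      _ = (t * e) * (t' * e') := by group
  rw [h1]
  exact (stabilizer G α).mul_mem hte hte'

/-- [B1-PROJMUL] -/
theorem proj_inv (h : BCtx α N T) (t : G) (ht : t ∈ T) (hp : Proj α N T t) :
    Proj α N T t⁻¹ := by
  obtain ⟨e, he, hte⟩ := hp
  refine ⟨e⁻¹, (N ⊓ Subgroup.centralizer (T : Set G)).inv_mem he, ?_⟩
  have hc : t * e = e * t := Subgroup.mem_centralizer_iff.1 he.2 t ht
  have h1 : t⁻¹ * e⁻¹ = (t * e)⁻¹ := by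
    rw [← mul_inv_rev, ← hc]
  rw [h1]
  exact (stabilizer G α).inv_mem hte

/-- [B1-PROJMUL] -/
theorem proj_of_mem_stab (α : Ω) (N T : Subgroup G) (t : G) (ht : t ∈ stabilizer G α) :
    Proj α N T t := by
  refine ⟨1, (N ⊓ Subgroup.centralizer (T : Set G)).one_mem, ?_⟩
  rw [mul_one]
  exact ht

/-- [B1-PROJCONJ] -/
theorem proj_conj [FaithfulSMul G Ω] (h : BCtx α N T)
    (hst : ∀ t ∈ T, ¬ Proj α N T t → ∀ k ∈ stabilizer G α, cj k T = T → k ∈ stabilizer G (t • α))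
    (r₁ t : G) (hr₁ : r₁ ∈ T) (hp : Proj α N T r₁) (ht : t ∈ T) :
    Proj α N T (t⁻¹ * r₁ * t) := by
  by_cases hpt : Proj α N T t
  · exact proj_mul h _ _ (T.mul_mem (T.inv_mem ht) hr₁) ht
      (proj_mul h _ _ (T.inv_mem ht) hr₁ (proj_inv h t ht hpt) hp) hpt
  · obtain ⟨e, he, hre⟩ := hp
    have hTN : T ≤ N := h.minIn.2.1
    have hrN : r₁ * e ∈ N := N.mul_mem (hTN hr₁) he.1
    have hcj : cj (r₁ * e) T = T := by
      have h1 := cj_of_mem_N h 1 (r₁ * e) hrN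
      rwa [cj_one] at h1
    have h2 := hst t ht hpt (r₁ * e) hre hcj
    rw [stab_smul_iff α t (r₁ * e) hre] at h2
    -- `e` commutes with `r₁⁻¹ * t⁻¹ * r₁ ∈ T`
    have hw : r₁⁻¹ * t⁻¹ * r₁ ∈ T := T.mul_mem (T.mul_mem (T.inv_mem hr₁) (T.inv_mem ht)) hr₁
    have hc : (r₁⁻¹ * t⁻¹ * r₁) * e = e * (r₁⁻¹ * t⁻¹ * r₁) :=
      Subgroup.mem_centralizer_iff.1 he.2 _ hw
    have h3 : (r₁ * e)⁻¹ * t⁻¹ * (r₁ * e) * t = r₁⁻¹ * t⁻¹ * r₁ * t := by
      calc (r₁ * e)⁻¹ * t⁻¹ * (r₁ * e) * t = e⁻¹ * ((r₁⁻¹ * t⁻¹ * r₁) * e) * t := by group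
        _ = e⁻¹ * (e * (r₁⁻¹ * t⁻¹ * r₁)) * t := by rw [hc]
        _ = r₁⁻¹ * t⁻¹ * r₁ * t := by group
    rw [h3] at h2
    have h4 : Proj α N T (r₁⁻¹ * t⁻¹ * r₁ * t) := proj_of_mem_stab α N T _ h2
    have h5 : t⁻¹ * r₁ * t = r₁ * (r₁⁻¹ * t⁻¹ * r₁ * t) := by group
    rw [h5]
    exact proj_mul h _ _ hr₁ (T.mul_mem hw ht) ⟨e, he, hre⟩ h4

end R

end Cfsg.Agent.Helper13.S93
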