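import Mathlib
import Cfsg.Agent.Lib.Helper13.S93Defs
import Cfsg.Agent.Lib.S93.S93RDICH

set_option autoImplicit false

namespace Cfsg.Agent.Helper13.S93

open MulAction Cfsg.Agent.S0721

universe u v

section R

variable {G : Type u} [Group G] {Ω : Type v} [MulAction G Ω]

variable {α : Ω} {N T : Subgroup G}

/-- [R-FACTOR] -/
theorem factor [FaithfulSMul G Ω] (h : BCtx α N T) (g : G) :
    ∃ k ∈ stabilizer G α, ∃ n ∈ N, g = k * n := by
  have hNn := h.normal
  have hp := h.prim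
  have htr : IsPretransitive N Ω := Cfsg.Agent.S3680.trans_of_normal N h.ne_bot
  obtain ⟨n', hn'⟩ := htr.exists_smul_eq α (g⁻¹ • α)
  have hn'' : (n' : G) • α = g⁻¹ • α := hn'
  refine ⟨g * n', ?_, (n' : G)⁻¹, N.inv_mem n'.2, by group⟩
  rw [mem_stabilizer_iff, mul_smul, hn'', smul_inv_smul]

/-- [R-CJSTAB] -/
theorem cj_stab [FaithfulSMul G Ω] (h : BCtx α N T) (g : G) :
    ∃ k ∈ stabilizer G α, cj g T = cj k T := by
  obtain ⟨k, hk, n, hn, rfl⟩ := factor h g
  refine ⟨k, hk, ?_⟩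
  have h1 := cj_of_mem_N h 1 n hn
  rw [cj_one] at h1
  rw [← cj_cj, h1]

/-- [R-CJNE] -/
theorem exists_cj_ne [FaithfulSMul G Ω] (h : BCtx α N T) (hTN : T ≠ N) :
    ∃ k ∈ stabilizer G α, cj k T ≠ T := by
  by_contra hcon
  push_neg at hcon
  apply hTN
  have hNn := h.normal
  have hall : ∀ g : G, cj g T = T := by
    intro g
    obtain ⟨k, hk, hgk⟩ := cj_stab h g
    rw [hgk]; exact hcon k hk
  have := iSup_cj_eq N h.min h.minIn
  rw [← this]
  apply le_antisymm
  · have := le_iSup (fun g : G => cj g T) 1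
    rwa [cj_one] at this
  · apply iSup_le
    intro g
    rw [hall g]

end R

end Cfsg.Agent.Helper13.S93
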