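import Mathlib
import Cfsg.Agent.Lib.Helper13.S93Defs
import Cfsg.Agent.Lib.S93.S93RDICH
import Cfsg.Agent.Lib.S93.S93RFACTOR

set_option autoImplicit false

namespace Cfsg.Agent.Helper13.S93

open MulAction Cfsg.Agent.S0721

universe u v

section R

variable {G : Type u} [Group G] {Ω : Type v} [MulAction G Ω]

variable {α : Ω} {N T : Subgroup G}

/-- the (⇐) direction of `b1_stab`: if `k ∈ G_α ∩ G_{tα}` and `t` is not a projection, then `k`
normalizes `T`. -/
theorem s93_b1stab_rev (h : BCtx α N T) (t : G) (ht : t ∈ T)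
    (hnp : ¬ Proj α N T t) (k : G) (hk : k ∈ stabilizer G α)
    (hkt : k ∈ stabilizer G (t • α)) : cj k T = T := by
  by_contra hne
  have h1 : k⁻¹ * t⁻¹ * k * t ∈ stabilizer G α := (stab_smul_iff α t k hk).mp hkt
  -- u := k⁻¹ t⁻¹ k ∈ cj k⁻¹ T
  have hu : k⁻¹ * t⁻¹ * k ∈ cj k⁻¹ T := by
    rw [mem_cj]
    have e : (k⁻¹)⁻¹ * (k⁻¹ * t⁻¹ * k) * k⁻¹ = t⁻¹ := by group
    rw [e]; exact T.inv_mem ht
  have hne' : cj k⁻¹ T ≠ cj 1 T := by
    intro heq
    apply hne
    rw [cj_one] at heq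
    calc cj k T = cj k (cj k⁻¹ T) := by rw [heq]
      _ = cj (k * k⁻¹) T := cj_cj k k⁻¹ T
      _ = T := by rw [mul_inv_cancel, cj_one]
  rcases dich h k⁻¹ 1 with heq | ⟨-, hcomm⟩
  · exact hne' heq
  · rw [cj_one] at hcomm
    apply hnp
    have hcent : k⁻¹ * t⁻¹ * k ∈ Subgroup.centralizer (T : Set G) := by
      rw [Subgroup.mem_centralizer_iff]
      intro b hb
      exact (hcomm _ hu b hb).symm
    refine ⟨k⁻¹ * t⁻¹ * k, Subgroup.mem_inf.mpr ⟨cj_le_N h k⁻¹ hu, hcent⟩, ?_⟩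
    · have e : t * (k⁻¹ * t⁻¹ * k) = k⁻¹ * t⁻¹ * k * t := (hcomm _ hu t ht).symm
      rw [e]; exact h1

/-- [B1-STAB] -/
theorem b1_stab [FaithfulSMul G Ω] (h : BCtx α N T) (hTN : T ≠ N) (t : G) (ht : t ∈ T)
    (hnp : ¬ Proj α N T t) (k : G) (hk : k ∈ stabilizer G α) :
    cj k T = T ↔ k ∈ stabilizer G (t • α) := by
  constructor
  · intro hkT
    set L : Subgroup G := stabilizer G α ⊓ Subgroup.normalizer (T : Set G) with hL
    have hle : stabilizer G α ⊓ stabilizer G (t • α) ≤ L := by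
      intro k' hk'
      rw [Subgroup.mem_inf] at hk'
      rw [hL, Subgroup.mem_inf]
      refine ⟨hk'.1, ?_⟩
      rw [← cj_eq_self_iff]
      exact s93_b1stab_rev h t ht hnp k' hk'.1 hk'.2
    have hLK : L ≤ stabilizer G α := inf_le_left
    have hkL : k ∈ L := by
      rw [hL, Subgroup.mem_inf]
      exact ⟨hk, (cj_eq_self_iff k T).mp hkT⟩
    rcases h.nb (t • α) L hle hLK with hL1 | hL2
    · rw [hL1, Subgroup.mem_inf] at hkL
      exact hkL.2
    · exfalso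
      obtain ⟨k₀, hk₀, hk₀T⟩ := exists_cj_ne h hTN
      apply hk₀T
      rw [cj_eq_self_iff]
      have : k₀ ∈ L := by rw [hL2]; exact hk₀
      rw [hL, Subgroup.mem_inf] at this
      exact this.2
  · intro hkt
    exact s93_b1stab_rev h t ht hnp k hk hkt

end R

end Cfsg.Agent.Helper13.S93
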