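import Mathlib
import Cfsg.Agent.Lib.Helper13.S93Defs

set_option autoImplicit false

namespace Cfsg.Agent.Helper13.S93

open MulAction Cfsg.Agent.S0721

universe u v

section R

variable {G : Type u} [Group G] {Ω : Type v} [MulAction G Ω]

variable {α : Ω} {N T : Subgroup G}

/-- [R-CENTERN] -/
theorem centerN [Finite G] (h : BCtx α N T) (z : G) (hz : z ∈ N)
    (hc : ∀ n ∈ N, z * n = n * z) : z = 1 := by
  have hNn := h.normal
  let Z : Subgroup G :=
    { carrier := {x | x ∈ N ∧ ∀ n ∈ N, x * n = n * x}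
      mul_mem' := by
        rintro a b ⟨ha, hac⟩ ⟨hb, hbc⟩
        refine ⟨N.mul_mem ha hb, fun n hn => ?_⟩
        rw [mul_assoc, hbc n hn, ← mul_assoc, hac n hn, mul_assoc]
      one_mem' := ⟨N.one_mem, fun n _ => by simp⟩
      inv_mem' := by
        rintro a ⟨ha, hac⟩
        refine ⟨N.inv_mem ha, fun n hn => ?_⟩
        have := hac n hn
        calc a⁻¹ * n = a⁻¹ * (n * a) * a⁻¹ := by group
          _ = a⁻¹ * (a * n) * a⁻¹ := by rw [this]
          _ = n * a⁻¹ := by group }
  have hZn : Z.Normal := by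
    constructor
    rintro x ⟨hx, hxc⟩ g
    refine ⟨hNn.conj_mem x hx g, fun n hn => ?_⟩
    have h1 : g⁻¹ * n * g ∈ N := by
      have := hNn.conj_mem n hn g⁻¹
      simpa using this
    have h2 := hxc _ h1
    calc g * x * g⁻¹ * n = g * (x * (g⁻¹ * n * g)) * g⁻¹ := by group
      _ = g * ((g⁻¹ * n * g) * x) * g⁻¹ := by rw [h2]
      _ = n * (g * x * g⁻¹) := by group
  have hZle : Z ≤ N := fun x hx => hx.1
  rcases h.min Z hZn hZle with hb | he
  · have : z ∈ Z := ⟨hz, hc⟩
    rw [hb, Subgroup.mem_bot] at this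
    exact this
  · exfalso
    obtain ⟨a, ha, b, hb, hab⟩ := h.noncomm
    apply hab
    have : a ∈ Z := by rw [he]; exact ha
    exact this.2 b hb

end R

end Cfsg.Agent.Helper13.S93
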