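import Mathlib
import Cfsg.Agent.Lib.Helper13.S93Defs

/-!
# S3493 piece S93-RNONCOMMT: `T` is non-commutative and has trivial centre.
-/

set_option autoImplicit false

namespace Cfsg.Agent.Helper13.S93

open MulAction Cfsg.Agent.S0721

universe u v

section R

variable {G : Type u} [Group G] {Ω : Type v} [MulAction G Ω]

variable {α : Ω} {N T : Subgroup G}

/-- two conjugates of `T` are equal or commute elementwise (own copy of the dichotomy) -/
theorem s93_rnoncommt_dich (h : BCtx α N T) (g g' : G) :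
    cj g T = cj g' T ∨
      (cj g T ⊓ cj g' T = ⊥ ∧ ∀ a ∈ cj g T, ∀ b ∈ cj g' T, a * b = b * a) := by
  haveI := h.normal
  have hA : IsMinIn N (cj g T) := isMinIn_cj h.minIn g
  have hB : IsMinIn N (cj g' T) := isMinIn_cj h.minIn g'
  by_cases hle : cj g T ≤ cj g' T
  · left
    rcases hB.2.2.2 (cj g T) hle hA.2.2.1 with h1 | h1
    · exact absurd h1 hA.1
    · exact h1
  · right
    have hd : cj g T ⊓ cj g' T = ⊥ := isMinIn_inf_eq_bot hA hB.2.2.1 hle
    exact ⟨hd, commute_of_disjoint hA.2.1 hB.2.1 hA.2.2.1 hB.2.2.1 hd⟩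

/-- [R-NONCOMMT] -/
theorem noncommT [Finite G] (h : BCtx α N T) : ∃ a ∈ T, ∃ b ∈ T, a * b ≠ b * a := by
  by_contra hcon
  push Not at hcon
  haveI := h.normal
  -- every conjugate of `T` is commutative
  have hconj : ∀ g : G, ∀ a ∈ cj g T, ∀ b ∈ cj g T, a * b = b * a := by
    intro g a ha b hb
    rw [mem_cj] at ha hb
    have h1 := hcon _ ha _ hb
    calc a * b = g * ((g⁻¹ * a * g) * (g⁻¹ * b * g)) * g⁻¹ := by group
      _ = g * ((g⁻¹ * b * g) * (g⁻¹ * a * g)) * g⁻¹ := by rw [h1]
      _ = b * a := by group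
  have hpair : ∀ g g' : G, cj g T ≤ Subgroup.centralizer ((cj g' T : Subgroup G) : Set G) := by
    intro g g' a ha
    rw [Subgroup.mem_centralizer_iff]
    intro b hb
    rcases s93_rnoncommt_dich h g g' with h1 | h1
    · rw [← h1] at hb
      exact hconj g b hb a ha
    · exact (h1.2 a ha b hb).symm
  have hN : (⨆ g : G, cj g T) = N := iSup_cj_eq N h.min h.minIn
  have h2 : ∀ g : G, cj g T ≤ Subgroup.centralizer ((N : Subgroup G) : Set G) := by
    intro g
    rw [Subgroup.le_centralizer_iff, ← hN]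
    exact iSup_le fun g' => hpair g' g
  have h3 : N ≤ Subgroup.centralizer ((N : Subgroup G) : Set G) := by
    conv_lhs => rw [← hN]
    exact iSup_le h2
  obtain ⟨a, ha, b, hb, hab⟩ := h.noncomm
  apply hab
  have h4 := h3 hb
  rw [Subgroup.mem_centralizer_iff] at h4
  exact h4 a ha

/-- [R-CENTERT] -/
theorem centerT [Finite G] (h : BCtx α N T) (z : G) (hz : z ∈ T)
    (hc : ∀ t ∈ T, z * t = t * z) : z = 1 := by
  haveI := h.simpleT
  have hzc : (⟨z, hz⟩ : T) ∈ Subgroup.center T := by
    rw [Subgroup.mem_center_iff]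
    rintro ⟨t, ht⟩
    apply Subtype.ext
    exact (hc t ht).symm
  rcases (inferInstance : (Subgroup.center T).Normal).eq_bot_or_eq_top with h1 | h1
  · rw [h1, Subgroup.mem_bot] at hzc
    exact congrArg Subtype.val hzc
  · exfalso
    obtain ⟨a, ha, b, hb, hab⟩ := noncommT h
    apply hab
    have h2 : (⟨a, ha⟩ : T) ∈ Subgroup.center T := by rw [h1]; exact Subgroup.mem_top _
    rw [Subgroup.mem_center_iff] at h2
    have h3 := h2 ⟨b, hb⟩
    exact (congrArg Subtype.val h3).symm

end R

end Cfsg.Agent.Helper13.S93
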