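import Mathlib
import Cfsg.Agent.Lib.Helper13.S93Defs
import Cfsg.Agent.Lib.S93.S93RDICH
import Cfsg.Agent.Lib.S93.S93RNONCOMMT

/-!
# S3493, piece S93-RDECOMP: `N = T * (N ⊓ C(T))`, with unique factors
-/

set_option autoImplicit false
set_option linter.unusedVariables false

namespace Cfsg.Agent.Helper13.S93

open MulAction Cfsg.Agent.S0721

universe u v

section R

variable {G : Type u} [Group G] {Ω : Type v} [MulAction G Ω]

variable {α : Ω} {N T : Subgroup G}

/-- the product set `T * (N ⊓ C(T))` as a subgroup -/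
def s93_rdecomp_prod (N T : Subgroup G) : Subgroup G where
  carrier := {x | ∃ t ∈ T, ∃ e ∈ N ⊓ Subgroup.centralizer (T : Set G), x = t * e}
  one_mem' := ⟨1, T.one_mem, 1, Subgroup.one_mem _, (mul_one 1).symm⟩
  mul_mem' := by
    rintro _ _ ⟨t, ht, e, he, rfl⟩ ⟨t', ht', e', he', rfl⟩
    refine ⟨t * t', T.mul_mem ht ht', e * e', Subgroup.mul_mem _ he he', ?_⟩
    have hc : t' * e = e * t' := (Subgroup.mem_centralizer_iff.1 he.2) t' ht'
    calc t * e * (t' * e') = t * (e * t') * e' := by group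
      _ = t * (t' * e) * e' := by rw [hc]
      _ = t * t' * (e * e') := by group
  inv_mem' := by
    rintro _ ⟨t, ht, e, he, rfl⟩
    refine ⟨t⁻¹, T.inv_mem ht, e⁻¹, Subgroup.inv_mem _ he, ?_⟩
    have hc : t * e = e * t := (Subgroup.mem_centralizer_iff.1 he.2) t ht
    calc (t * e)⁻¹ = (e * t)⁻¹ := by rw [hc]
      _ = t⁻¹ * e⁻¹ := by group

theorem s93_rdecomp_mem_prod (N T : Subgroup G) (x : G) :
    x ∈ s93_rdecomp_prod N T ↔
      ∃ t ∈ T, ∃ e ∈ N ⊓ Subgroup.centralizer (T : Set G), x = t * e := Iff.rfl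

/-- [R-DECOMP] -/
theorem decomp [FaithfulSMul G Ω] (h : BCtx α N T) (n : G) (hn : n ∈ N) :
    ∃ t ∈ T, ∃ e ∈ N ⊓ Subgroup.centralizer (T : Set G), n = t * e := by
  have := h.normal
  rw [← s93_rdecomp_mem_prod]
  have hsup : ⨆ g : G, cj g T = N := iSup_cj_eq N h.min h.minIn
  have hle : ⨆ g : G, cj g T ≤ s93_rdecomp_prod N T := by
    apply iSup_le
    intro g x hx
    rw [s93_rdecomp_mem_prod]
    rcases dich h g 1 with h1 | ⟨_, h2⟩
    · rw [h1, cj_one] at hx
      exact ⟨x, hx, 1, Subgroup.one_mem _, (mul_one x).symm⟩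
    · have hxc : x ∈ Subgroup.centralizer (T : Set G) := by
        rw [Subgroup.mem_centralizer_iff]
        intro t ht
        have ht' : t ∈ cj 1 T := by rw [cj_one]; exact ht
        exact (h2 x hx t ht').symm
      exact ⟨1, T.one_mem, x, Subgroup.mem_inf.2 ⟨cj_le_N h g hx, hxc⟩, (one_mul x).symm⟩
  apply hle
  rw [hsup]
  exact hn

/-- [R-DECOMPU] -/
theorem decomp_unique [Finite G] (h : BCtx α N T) (t t' e e' : G) (ht : t ∈ T) (ht' : t' ∈ T)
    (he : e ∈ N ⊓ Subgroup.centralizer (T : Set G))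
    (he' : e' ∈ N ⊓ Subgroup.centralizer (T : Set G)) (heq : t * e = t' * e') :
    t = t' ∧ e = e' := by
  have hz : t'⁻¹ * t = e' * e⁻¹ := by
    calc t'⁻¹ * t = t'⁻¹ * (t * e) * e⁻¹ := by group
      _ = t'⁻¹ * (t' * e') * e⁻¹ := by rw [heq]
      _ = e' * e⁻¹ := by group
  have hzT : t'⁻¹ * t ∈ T := T.mul_mem (T.inv_mem ht') ht
  have hzE : t'⁻¹ * t ∈ Subgroup.centralizer (T : Set G) := by
    rw [hz]
    exact Subgroup.mul_mem _ he'.2 (Subgroup.inv_mem _ he.2)
  have h1 : t'⁻¹ * t = 1 := by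
    apply centerT h _ hzT
    intro s hs
    exact ((Subgroup.mem_centralizer_iff.1 hzE) s hs).symm
  have htt : t = t' := by
    have : t = t' * (t'⁻¹ * t) := by group
    rw [this, h1, mul_one]
  refine ⟨htt, ?_⟩
  rw [htt] at heq
  exact mul_left_cancel heq

end R

end Cfsg.Agent.Helper13.S93
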