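import Mathlib
import Cfsg.Agent.Lib.Helper13.S93Defs
import Cfsg.Agent.Lib.S93.S93RDICH
import Cfsg.Agent.Lib.S93.S93RDECOMP
import Cfsg.Agent.Lib.S93.S93RFACTOR
import Cfsg.Agent.Lib.S93.S93RCENTERN
import Cfsg.Agent.Lib.S93.S93B1STAB

/-! S3493 farm-out (designer helper13), piece S93-B1R: in case B1, `G_α ∩ N = 1` and the elements of `G_α`
normalizing `T` centralize `T`. -/

set_option autoImplicit false

namespace Cfsg.Agent.Helper13.S93

open MulAction Cfsg.Agent.S0721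

universe u v

section R

variable {G : Type u} [Group G] {Ω : Type v} [MulAction G Ω]

variable {α : Ω} {N T : Subgroup G}

/-- [B1-RTRIV] -/
theorem b1_R_trivial [Finite G] [FaithfulSMul G Ω] (h : BCtx α N T)
    (hproj : ∀ t ∈ T, Proj α N T t → t = 1) : stabilizer G α ⊓ N = ⊥ := by
  haveI := h.normal
  rw [eq_bot_iff]
  rintro r ⟨hrK, hrN⟩
  rw [Subgroup.mem_bot]
  apply centerN h r hrN
  -- `r` commutes with every conjugate of `T`
  have hcomm : ∀ g : G, cj g T ≤ Subgroup.centralizer ({r} : Set G) := by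
    intro g
    obtain ⟨k, hk, hgk⟩ := cj_stab h g
    rw [hgk]
    intro x hx
    rw [mem_cj] at hx
    have hr' : k⁻¹ * r * k ∈ N := by
      have := (h.normal).conj_mem r hrN k⁻¹
      rwa [inv_inv] at this
    have hrK' : k⁻¹ * r * k ∈ stabilizer G α :=
      (stabilizer G α).mul_mem ((stabilizer G α).mul_mem ((stabilizer G α).inv_mem hk) hrK) hk
    obtain ⟨t, ht, e, he, hte⟩ := decomp h (k⁻¹ * r * k) hr'
    have ht1 : t = 1 := hproj t ht ⟨e, he, by rw [← hte]; exact hrK'⟩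
    rw [ht1, one_mul] at hte
    have hc : (k⁻¹ * x * k) * e = e * (k⁻¹ * x * k) := Subgroup.mem_centralizer_iff.1 he.2 _ hx
    rw [← hte] at hc
    rw [Subgroup.mem_centralizer_iff]
    intro y hy
    rw [Set.mem_singleton_iff] at hy
    subst hy
    -- from `k⁻¹ x k * (k⁻¹ y k) = (k⁻¹ y k) * k⁻¹ x k`
    have h1 : y * x = k * ((k⁻¹ * y * k) * (k⁻¹ * x * k)) * k⁻¹ := by group
    have h2 : x * y = k * ((k⁻¹ * x * k) * (k⁻¹ * y * k)) * k⁻¹ := by group
    rw [h1, h2, hc]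
  have hN : N ≤ Subgroup.centralizer ({r} : Set G) := by
    rw [← iSup_cj_eq N h.min h.minIn]
    exact iSup_le hcomm
  intro n hn
  have := Subgroup.mem_centralizer_iff.1 (hN hn) r (Set.mem_singleton r)
  exact this

/-- [B1-LCENT] -/
theorem b1_L_centralizes [Finite G] [FaithfulSMul G Ω] (h : BCtx α N T) (hTN : T ≠ N)
    (hproj : ∀ t ∈ T, Proj α N T t → t = 1) (hR : stabilizer G α ⊓ N = ⊥) :
    ∀ k ∈ stabilizer G α, cj k T = T → ∀ t ∈ T, k * t = t * k := by
  intro k hk hcj t ht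
  by_cases ht1 : t = 1
  · rw [ht1, mul_one, one_mul]
  · have hnp : ¬ Proj α N T t := fun hp => ht1 (hproj t ht hp)
    have h1 := (b1_stab h hTN t ht hnp k hk).1 hcj
    rw [stab_smul_iff α t k hk] at h1
    have h2 : k⁻¹ * t⁻¹ * k ∈ T := by
      have h3 : t⁻¹ ∈ cj k T := by rw [hcj]; exact T.inv_mem ht
      rwa [mem_cj] at h3
    have h4 : k⁻¹ * t⁻¹ * k * t ∈ stabilizer G α ⊓ N :=
      ⟨h1, h.minIn.2.1 (T.mul_mem h2 ht)⟩
    rw [hR, Subgroup.mem_bot] at h4
    have h5 : k * t = t * k * (k⁻¹ * t⁻¹ * k * t) := by group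
    rw [h5, h4, mul_one]

end R

end Cfsg.Agent.Helper13.S93
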