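import Mathlib
import Cfsg.Agent.Lib.Helper13.S93Defs
import Cfsg.Agent.Lib.S93.S93B1STAB
import Cfsg.Agent.Lib.S93.S93B1PROJ

set_option autoImplicit false

namespace Cfsg.Agent.Helper13.S93

open MulAction Cfsg.Agent.S0721

universe u v

section R

variable {G : Type u} [Group G] {Ω : Type v} [MulAction G Ω]

variable {α : Ω} {N T : Subgroup G}

/-- [B1-PROJTRIV] -/
theorem b1_proj_trivial [Finite G] [FaithfulSMul G Ω] (h : BCtx α N T) (hTN : T ≠ N) (t₀ : G)
    (ht₀ : t₀ ∈ T) (hnp : ¬ Proj α N T t₀) : ∀ t ∈ T, Proj α N T t → t = 1 := by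
  have hst : ∀ t ∈ T, ¬ Proj α N T t → ∀ k ∈ stabilizer G α, cj k T = T →
      k ∈ stabilizer G (t • α) :=
    fun t ht hnpt k hk hkT => (b1_stab h hTN t ht hnpt k hk).mp hkT
  let R₁ : Subgroup ↥T :=
    { carrier := {t | Proj α N T (t : G)}
      mul_mem' := by
        intro a b ha hb
        simp only [Set.mem_setOf_eq] at ha hb ⊢
        rw [Subgroup.coe_mul]
        exact proj_mul h _ _ a.2 b.2 ha hb
      one_mem' := by
        simp only [Set.mem_setOf_eq]
        rw [Subgroup.coe_one]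
        exact proj_of_mem_stab α N T 1 (Subgroup.one_mem _)
      inv_mem' := by
        intro a ha
        simp only [Set.mem_setOf_eq] at ha ⊢
        rw [Subgroup.coe_inv]
        exact proj_inv h _ a.2 ha }
  have hmem : ∀ a : ↥T, a ∈ R₁ ↔ Proj α N T (a : G) := fun a => Iff.rfl
  have hnorm : R₁.Normal := by
    refine ⟨fun n hn g => ?_⟩
    rw [hmem] at hn ⊢
    have := proj_conj h hst (n : G) ((g : G)⁻¹) n.2 hn (T.inv_mem g.2)
    rw [inv_inv] at this
    simpa [Subgroup.coe_mul, Subgroup.coe_inv] using this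
  have hsimple : IsSimpleGroup ↥T := h.simpleT
  rcases hnorm.eq_bot_or_eq_top with hb | htop
  · intro t ht hp
    have h1 : (⟨t, ht⟩ : ↥T) ∈ R₁ := (hmem _).mpr hp
    rw [hb, Subgroup.mem_bot] at h1
    have := congrArg (fun x : ↥T => (x : G)) h1
    simpa using this
  · exfalso
    apply hnp
    have h1 : (⟨t₀, ht₀⟩ : ↥T) ∈ R₁ := by rw [htop]; exact Subgroup.mem_top _
    exact (hmem _).mp h1

end R

end Cfsg.Agent.Helper13.S93
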