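import Mathlib
import Cfsg.Agent.Lib.Helper13.S93Defs

/-!
# S3493 piece S93-B2INF, core: `G_α ∩ T = 1` in case B2
(the pieces `cj_stab` and `not_le_stab` enter as hypotheses).
-/

set_option autoImplicit false

namespace Cfsg.Agent.Helper13.S93

open MulAction Cfsg.Agent.S0721

universe u v

section R

variable {G : Type u} [Group G] {Ω : Type v} [MulAction G Ω]

variable {α : Ω} {N T : Subgroup G}

theorem s93_b2inf_core (h : BCtx α N T) (hproj : ∀ t ∈ T, Proj α N T t)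
    (hcjstab : ∀ g : G, ∃ k ∈ stabilizer G α, cj g T = cj k T)
    (hnls : ¬ N ≤ stabilizer G α) : stabilizer G α ⊓ T = ⊥ := by
  haveI := h.normal
  haveI := h.simpleT
  -- `D = G_α ∩ T` is normalized by `T`
  have hnorm : ((stabilizer G α).subgroupOf T).Normal := by
    constructor
    rintro ⟨d, hdT⟩ hd ⟨t, ht⟩
    rw [Subgroup.mem_subgroupOf] at hd ⊢
    have hdK : d ∈ stabilizer G α := hd
    show t * d * t⁻¹ ∈ stabilizer G α
    obtain ⟨e, he, hte⟩ := hproj t ht
    have hec := (Subgroup.mem_inf.1 he).2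
    rw [Subgroup.mem_centralizer_iff] at hec
    have h1 : (t * e) * d * (t * e)⁻¹ ∈ stabilizer G α :=
      Subgroup.mul_mem _ (Subgroup.mul_mem _ hte hdK) (Subgroup.inv_mem _ hte)
    have h2 : (t * e) * d * (t * e)⁻¹ = t * d * t⁻¹ := by
      have h3 : e * d = d * e := (hec d hdT).symm
      calc (t * e) * d * (t * e)⁻¹ = t * (e * d) * e⁻¹ * t⁻¹ := by group
        _ = t * (d * e) * e⁻¹ * t⁻¹ := by rw [h3]
        _ = t * d * t⁻¹ := by group
    rw [h2] at h1
    exact h1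
  rcases hnorm.eq_bot_or_eq_top with h1 | h1
  · rw [Subgroup.eq_bot_iff_forall]
    intro x hx
    obtain ⟨hxK, hxT⟩ := Subgroup.mem_inf.1 hx
    have h2 : (⟨x, hxT⟩ : T) ∈ (stabilizer G α).subgroupOf T := by
      rw [Subgroup.mem_subgroupOf]
      exact hxK
    rw [h1, Subgroup.mem_bot] at h2
    exact congrArg Subtype.val h2
  · exfalso
    apply hnls
    have hTK : T ≤ stabilizer G α := by
      intro x hxT
      have h2 : (⟨x, hxT⟩ : T) ∈ (stabilizer G α).subgroupOf T := by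
        rw [h1]; exact Subgroup.mem_top _
      rw [Subgroup.mem_subgroupOf] at h2
      exact h2
    have hN : (⨆ g : G, cj g T) = N := iSup_cj_eq N h.min h.minIn
    rw [← hN]
    apply iSup_le
    intro g
    obtain ⟨k, hk, hgk⟩ := hcjstab g
    rw [hgk]
    intro x hx
    rw [mem_cj] at hx
    have h2 : k * (k⁻¹ * x * k) * k⁻¹ ∈ stabilizer G α :=
      Subgroup.mul_mem _ (Subgroup.mul_mem _ hk (hTK hx)) (Subgroup.inv_mem _ hk)
    have h3 : k * (k⁻¹ * x * k) * k⁻¹ = x := by group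
    rw [h3] at h2
    exact h2

theorem s93_b2inf_cj_core (hinf : stabilizer G α ⊓ T = ⊥)
    (hcjstab : ∀ g : G, ∃ k ∈ stabilizer G α, cj g T = cj k T) (g : G) :
    stabilizer G α ⊓ cj g T = ⊥ := by
  obtain ⟨k, hk, hgk⟩ := hcjstab g
  rw [hgk, Subgroup.eq_bot_iff_forall]
  intro x hx
  obtain ⟨hxK, hxT⟩ := Subgroup.mem_inf.1 hx
  rw [mem_cj] at hxT
  have h1 : k⁻¹ * x * k ∈ stabilizer G α :=
    Subgroup.mul_mem _ (Subgroup.mul_mem _ (Subgroup.inv_mem _ hk) hxK) hk
  have h2 : k⁻¹ * x * k ∈ stabilizer G α ⊓ T := Subgroup.mem_inf.2 ⟨h1, hxT⟩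
  rw [hinf, Subgroup.mem_bot] at h2
  calc x = k * (k⁻¹ * x * k) * k⁻¹ := by group
    _ = 1 := by rw [h2]; group

end R

end Cfsg.Agent.Helper13.S93
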