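import Mathlib
import Cfsg.Agent.Lib.Helper13.S93Defs

set_option autoImplicit false

namespace Cfsg.Agent.Helper13.S93

open MulAction Cfsg.Agent.S0721

universe u v

section R

variable {G : Type u} [Group G] {Ω : Type v} [MulAction G Ω]

/-- [R-COATOM] -/
theorem stab_coatom (hprim : IsPreprimitive G Ω) (hnt : ∃ a b : Ω, a ≠ b) (α : Ω) (L : Subgroup G)
    (hL : stabilizer G α ≤ L) : L = stabilizer G α ∨ L = ⊤ := by
  haveI : Nontrivial Ω := by
    obtain ⟨a, b, hab⟩ := hnt
    exact ⟨⟨a, b, hab⟩⟩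
  haveI := hprim.toIsPretransitive
  have hco : IsCoatom (stabilizer G α) := (isCoatom_stabilizer_iff_preprimitive G α).mpr hprim
  by_cases hLt : L = ⊤
  · right; exact hLt
  · left
    rcases lt_or_eq_of_le hL with hlt | heq
    · exact (hLt (hco.2 L hlt)).elim
    · exact heq.symm

/-- [R-COREFREE] -/
theorem not_le_stab [FaithfulSMul G Ω] (hprim : IsPreprimitive G Ω) (α : Ω) (M : Subgroup G)
    (hMn : M.Normal) (hM : M ≠ ⊥) : ¬ M ≤ stabilizer G α := by
  intro hle
  apply hM
  haveI := hprim.toIsPretransitive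
  rw [Subgroup.eq_bot_iff_forall]
  intro m hm
  apply FaithfulSMul.eq_of_smul_eq_smul (α := Ω)
  intro ω
  rw [one_smul]
  obtain ⟨g, hg⟩ := MulAction.exists_smul_eq G α ω
  have h1 : g⁻¹ * m * g ∈ M := by
    have := hMn.conj_mem m hm g⁻¹
    simpa using this
  have h2 := hle h1
  rw [mem_stabilizer_iff, mul_smul, mul_smul, hg, inv_smul_eq_iff, hg] at h2
  exact h2

end R

end Cfsg.Agent.Helper13.S93
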