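import Mathlib
import Cfsg.Agent.Lib.Helper13.S93Defs
import Cfsg.Agent.Lib.S93.S93RCOATOM
import Cfsg.Agent.Lib.S93.S93RFACTOR
import Cfsg.Agent.Lib.S93.S93B2INFCore

/-!
# S3493 piece S93-B2INF: `G_α ∩ T = 1` (and the same for every conjugate of `T`) in case B2.
-/

set_option autoImplicit false

namespace Cfsg.Agent.Helper13.S93

open MulAction Cfsg.Agent.S0721

universe u v

section R

variable {G : Type u} [Group G] {Ω : Type v} [MulAction G Ω]

variable {α : Ω} {N T : Subgroup G}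

/-- [B2-INF] -/
theorem b2_inf [Finite G] [FaithfulSMul G Ω] (h : BCtx α N T) (hproj : ∀ t ∈ T, Proj α N T t) :
    stabilizer G α ⊓ T = ⊥ :=
  s93_b2inf_core h hproj (cj_stab h) (not_le_stab h.prim α N h.normal h.ne_bot)

/-- [B2-INFCJ] -/
theorem b2_inf_cj [Finite G] [FaithfulSMul G Ω] (h : BCtx α N T)
    (hproj : ∀ t ∈ T, Proj α N T t) (g : G) : stabilizer G α ⊓ cj g T = ⊥ :=
  s93_b2inf_cj_core (b2_inf h hproj) (cj_stab h) g

end R

end Cfsg.Agent.Helper13.S93
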