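import Mathlib
import Cfsg.Agent.Lib.Helper13.S93Defs
import Cfsg.Agent.Lib.S93.S93B2INF

/-!
# S3493 piece S93-B2BETAL: the action `β` on `T` is conjugation for elements normalizing `T`
-/

set_option autoImplicit false
set_option linter.unusedVariables false

namespace Cfsg.Agent.Helper13.S93

open MulAction Cfsg.Agent.S0721

universe u v

section R

variable {G : Type u} [Group G] {Ω : Type v} [MulAction G Ω]

variable {α : Ω} {N T : Subgroup G}

/-- [B2-BETAL] -/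
theorem b2_beta_L (α : Ω) (T : Subgroup G) (hinf : stabilizer G α ⊓ T = ⊥)
    (β : ↥(stabilizer G α) →* Equiv.Perm ↥T)
    (hβ : ∀ (k : ↥(stabilizer G α)) (t : ↥T), ((β k t : ↥T) : G) • α = (k : G) • ((t : G) • α))
    (k : ↥(stabilizer G α)) (hk : cj (k : G) T = T) (t : ↥T) :
    ((β k t : ↥T) : G) = (k : G) * (t : G) * (k : G)⁻¹ := by
  have hkα : (k : G) • α = α := mem_stabilizer_iff.1 k.2
  have hu : (k : G) * (t : G) * (k : G)⁻¹ ∈ T := by
    have := conj_mem_cj (k : G) T (t : G) t.2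
    rwa [hk] at this
  have h1 : ((β k t : ↥T) : G) • α = ((k : G) * (t : G) * (k : G)⁻¹) • α := by
    rw [hβ k t, mul_smul, mul_smul]
    have : (k : G)⁻¹ • α = α := by rw [inv_smul_eq_iff, hkα]
    rw [this]
  have h2 : ((k : G) * (t : G) * (k : G)⁻¹)⁻¹ * ((β k t : ↥T) : G) ∈ stabilizer G α ⊓ T := by
    refine Subgroup.mem_inf.2 ⟨?_, T.mul_mem (T.inv_mem hu) (β k t).2⟩
    rw [mem_stabilizer_iff, mul_smul, h1, inv_smul_smul]
  rw [hinf, Subgroup.mem_bot] at h2
  have := eq_of_inv_mul_eq_one h2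
  exact this.symm

/-- [B2-INNER] -/
theorem b2_inner [Finite G] [FaithfulSMul G Ω] (h : BCtx α N T)
    (hproj : ∀ t ∈ T, Proj α N T t) (β : ↥(stabilizer G α) →* Equiv.Perm ↥T)
    (hβ : ∀ (k : ↥(stabilizer G α)) (t : ↥T), ((β k t : ↥T) : G) • α = (k : G) • ((t : G) • α))
    (g : ↥T) : ∃ k : ↥(stabilizer G α), ∀ y : ↥T, β k y = g * y * g⁻¹ := by
  obtain ⟨e, he, hr⟩ := hproj (g : G) g.2
  have hinf := b2_inf h hproj
  have hec : ∀ y ∈ T, e * y * e⁻¹ = y := by
    intro y hy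
    have := Subgroup.mem_centralizer_iff.1 he.2 y hy
    -- this : y * e = e * y
    rw [← this]; group
  have hconj : ∀ y ∈ T, ((g : G) * e) * y * ((g : G) * e)⁻¹ = (g : G) * y * (g : G)⁻¹ := by
    intro y hy
    calc ((g : G) * e) * y * ((g : G) * e)⁻¹ = (g : G) * (e * y * e⁻¹) * (g : G)⁻¹ := by group
      _ = (g : G) * y * (g : G)⁻¹ := by rw [hec y hy]
  have hcj : cj ((g : G) * e) T = T := by
    rw [cj_eq_self_iff, Subgroup.mem_normalizer_iff]
    intro x
    constructor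
    · intro hx
      rw [hconj x hx]
      exact T.mul_mem (T.mul_mem g.2 hx) (T.inv_mem g.2)
    · intro hx
      have hx' : (g : G)⁻¹ * (((g : G) * e) * x * ((g : G) * e)⁻¹) * (g : G) ∈ T :=
        T.mul_mem (T.mul_mem (T.inv_mem g.2) hx) g.2
      have e1 : (g : G)⁻¹ * (((g : G) * e) * x * ((g : G) * e)⁻¹) * (g : G) = e * x * e⁻¹ := by
        group
      rw [e1] at hx'
      have e2 : x = e⁻¹ * (e * x * e⁻¹) * e := by group
      have hec' : e⁻¹ * (e * x * e⁻¹) * e = e * x * e⁻¹ := by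
        have := hec _ hx'
        calc e⁻¹ * (e * x * e⁻¹) * e = e⁻¹ * (e * (e * x * e⁻¹) * e⁻¹) * e := by rw [this]
          _ = e * x * e⁻¹ := by group
      rw [e2, hec']
      exact hx'
  refine ⟨⟨(g : G) * e, hr⟩, fun y => ?_⟩
  apply Subtype.ext
  rw [b2_beta_L α T hinf β hβ ⟨(g : G) * e, hr⟩ hcj y]
  show ((g : G) * e) * (y : G) * ((g : G) * e)⁻¹ = ((g * y * g⁻¹ : ↥T) : G)
  rw [hconj (y : G) y.2]
  simp

end R

end Cfsg.Agent.Helper13.S93
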