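import Mathlib
import Cfsg.Agent.Lib.Helper13.S93Defs
import Cfsg.Agent.Lib.S93.S93RDICH

/-!
# S3493 piece S93-B2FAR, core: a partner `T₂` of `T` with `T ⊔ T₂ ≠ N` is impossible
(the pieces `b2_stab_sub`, `b2_moving`, `b2_partner_unique`, `factor` enter as hypotheses).
-/

set_option autoImplicit false

namespace Cfsg.Agent.Helper13.S93

open MulAction Cfsg.Agent.S0721

universe u v

section R

variable {G : Type u} [Group G] {Ω : Type v} [MulAction G Ω]

variable {α : Ω} {N T : Subgroup G}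

theorem s93_b2far_cj_sup (k : G) (A B : Subgroup G) : cj k (A ⊔ B) = cj k A ⊔ cj k B := by
  unfold cj
  exact Subgroup.map_sup A B _

theorem s93_b2far_cj_injective (k : G) {A B : Subgroup G} (hAB : cj k A = cj k B) : A = B := by
  have := congrArg (cj k⁻¹) hAB
  rwa [cj_cj, cj_cj, inv_mul_cancel, cj_one, cj_one] at this

/-- conjugating a nontrivial intersection with the stabilizer by an element of the stabilizer -/
theorem s93_b2far_partner_cj (α : Ω) (k : G) (hk : k ∈ stabilizer G α) (A B : Subgroup G)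
    (hAB : stabilizer G α ⊓ (A ⊔ B) ≠ ⊥) : stabilizer G α ⊓ (cj k A ⊔ cj k B) ≠ ⊥ := by
  intro hbot
  apply hAB
  rw [eq_bot_iff]
  intro x hx
  obtain ⟨hxK, hxAB⟩ := Subgroup.mem_inf.1 hx
  rw [Subgroup.mem_bot]
  have h1 : k * x * k⁻¹ ∈ stabilizer G α ⊓ (cj k A ⊔ cj k B) := by
    refine Subgroup.mem_inf.2 ⟨Subgroup.mul_mem _ (Subgroup.mul_mem _ hk hxK)
      (Subgroup.inv_mem _ hk), ?_⟩
    rw [← s93_b2far_cj_sup]
    exact conj_mem_cj k _ x hxAB
  rw [hbot, Subgroup.mem_bot] at h1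
  calc x = k⁻¹ * (k * x * k⁻¹) * k := by group
    _ = 1 := by rw [h1]; group

theorem s93_b2far_core (h : BCtx α N T)
    (hstab : ∀ t ∈ T, t ≠ 1 → ∀ k ∈ stabilizer G α, k ∈ stabilizer G (t • α) →
      cj k T = T ∨ IsPartner α T (cj k⁻¹ T))
    (hmov : ∀ t ∈ T, t ≠ 1 → ∃ r ∈ stabilizer G α ⊓ N, r ∉ stabilizer G (t • α))
    (huniq : ∀ T' T'' : Subgroup G, IsPartner α T T' → IsPartner α T T'' → T' = T'')
    (hfac : ∀ g : G, ∃ k ∈ stabilizer G α, ∃ n ∈ N, g = k * n)
    (T₂ : Subgroup G) (hp : IsPartner α T T₂) (hne : T ⊔ T₂ ≠ N) : False := by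
  obtain ⟨hT2ne, ⟨g₀, hg₀⟩, hK2⟩ := hp
  have hp' : IsPartner α T T₂ := ⟨hT2ne, ⟨g₀, hg₀⟩, hK2⟩
  -- a nontrivial element of `T`
  obtain ⟨t, ht, ht1⟩ : ∃ t ∈ T, t ≠ 1 := by
    by_contra hcon
    push Not at hcon
    apply h.minIn.1
    rw [eq_bot_iff]
    intro x hx
    rw [Subgroup.mem_bot]
    exact hcon x hx
  -- `N` normalizes `T` and `T₂`
  have hNT : ∀ n ∈ N, cj n T = T := by
    intro n hn
    have := cj_of_mem_N h 1 n hn
    rwa [cj_one] at this
  have hNT2 : ∀ n ∈ N, cj n T₂ = T₂ := by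
    intro n hn
    rw [hg₀]
    exact cj_of_mem_N h g₀ n hn
  have hTN' : T ≤ N := by
    have := cj_le_N h 1
    rwa [cj_one] at this
  have hT2N : T₂ ≤ N := by
    rw [hg₀]
    exact cj_le_N h g₀
  -- the intermediate subgroup
  set LP : Subgroup G := stabilizer G α ⊓ Subgroup.normalizer ((T ⊔ T₂ : Subgroup G) : Set G)
    with hLP
  have hmemLP : ∀ k : G, k ∈ stabilizer G α → cj k (T ⊔ T₂) = T ⊔ T₂ → k ∈ LP := fun k hk hc =>
    Subgroup.mem_inf.2 ⟨hk, (cj_eq_self_iff k _).1 hc⟩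
  have hle1 : stabilizer G α ⊓ stabilizer G (t • α) ≤ LP := by
    intro k hkk
    obtain ⟨hk, hkt⟩ := Subgroup.mem_inf.1 hkk
    apply hmemLP k hk
    rw [s93_b2far_cj_sup]
    rcases hstab t ht ht1 k hk hkt with hc | hc
    · -- `cj k T = T`, so `cj k T₂` is a partner
      have hpart : IsPartner α T (cj k T₂) := by
        refine ⟨?_, ⟨k * g₀, by rw [hg₀, cj_cj]⟩, ?_⟩
        · intro h1
          apply hT2ne
          apply s93_b2far_cj_injective k
          rw [h1, hc]
        · have := s93_b2far_partner_cj α k hk T T₂ hK2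
          rwa [hc] at this
      rw [hc, huniq _ _ hpart hp']
    · -- `cj k⁻¹ T = T₂`
      have h1 : cj k⁻¹ T = T₂ := huniq _ _ hc hp'
      have h2 : cj k T₂ = T := by
        rw [← h1, cj_cj, mul_inv_cancel, cj_one]
      have hpart : IsPartner α T (cj k T) := by
        refine ⟨?_, ⟨k, rfl⟩, ?_⟩
        · intro h3
          apply hT2ne
          rw [← h1]
          have := congrArg (cj k⁻¹) h3
          rw [cj_cj, inv_mul_cancel, cj_one] at this
          exact this.symm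
        · have h4 : stabilizer G α ⊓ (T₂ ⊔ T) ≠ ⊥ := by rwa [sup_comm]
          have := s93_b2far_partner_cj α k hk T₂ T h4
          rwa [h2] at this
      rw [h2, huniq _ _ hpart hp', sup_comm]
  have hle2 : LP ≤ stabilizer G α := inf_le_left
  rcases h.nb (t • α) LP hle1 hle2 with hcase | hcase
  · -- `LP = K ⊓ G_{tα}` contradicts `b2_moving`
    obtain ⟨r, hrKN, hrt⟩ := hmov t ht ht1
    obtain ⟨hrK, hrN⟩ := Subgroup.mem_inf.1 hrKN
    have hrLP : r ∈ LP := by
      apply hmemLP r hrK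
      rw [s93_b2far_cj_sup, hNT r hrN, hNT2 r hrN]
    rw [hcase] at hrLP
    exact hrt (Subgroup.mem_inf.1 hrLP).2
  · -- `LP = K`: then `T ⊔ T₂` is normal in `G`
    have hnorm : (T ⊔ T₂).Normal := by
      constructor
      intro x hx g
      obtain ⟨k, hk, n, hn, rfl⟩ := hfac g
      have hkn : k ∈ Subgroup.normalizer ((T ⊔ T₂ : Subgroup G) : Set G) := by
        have : k ∈ LP := by rw [hcase]; exact hk
        exact (Subgroup.mem_inf.1 this).2
      have hnn : n ∈ Subgroup.normalizer ((T ⊔ T₂ : Subgroup G) : Set G) := by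
        apply (cj_eq_self_iff n _).1
        rw [s93_b2far_cj_sup, hNT n hn, hNT2 n hn]
      have := Subgroup.mul_mem _ hkn hnn
      exact (Subgroup.mem_normalizer_iff.1 this x).1 hx
    rcases h.min (T ⊔ T₂) hnorm (sup_le hTN' hT2N) with hb | hb
    · apply ht1
      have : t ∈ T ⊔ T₂ := Subgroup.mem_sup_left ht
      rw [hb, Subgroup.mem_bot] at this
      exact this
    · exact hne hb

end R

end Cfsg.Agent.Helper13.S93
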