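import Mathlib
import Cfsg.Agent.Lib.Helper13.S93Defs
import Cfsg.Agent.Lib.S93.S93RDICH
import Cfsg.Agent.Lib.S93.S93B2INF

/-! S3493 piece S93-B2PPROJ (helper15). -/

set_option autoImplicit false

namespace Cfsg.Agent.Helper13.S93

open MulAction Cfsg.Agent.S0721

universe u v

section R

variable {G : Type u} [Group G] {Ω : Type v} [MulAction G Ω]

theorem s93_b2pproj_cj_sup (k : G) (A B : Subgroup G) : cj k (A ⊔ B) = cj k A ⊔ cj k B := by
  unfold cj
  exact Subgroup.map_sup A B _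

/-- elements of the join of two elementwise commuting subgroups are products -/
theorem s93_b2pproj_mem_sup {A B : Subgroup G} (hc : ∀ a ∈ A, ∀ b ∈ B, a * b = b * a) (x : G)
    (hx : x ∈ A ⊔ B) : ∃ a ∈ A, ∃ b ∈ B, x = a * b := by
  let S : Subgroup G :=
    { carrier := {x | ∃ a ∈ A, ∃ b ∈ B, x = a * b}
      mul_mem' := by
        rintro _ _ ⟨a, ha, b, hb, rfl⟩ ⟨a', ha', b', hb', rfl⟩
        refine ⟨a * a', A.mul_mem ha ha', b * b', B.mul_mem hb hb', ?_⟩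
        calc a * b * (a' * b') = a * (b * a') * b' := by group
          _ = a * (a' * b) * b' := by rw [hc a' ha' b hb]
          _ = a * a' * (b * b') := by group
      one_mem' := ⟨1, A.one_mem, 1, B.one_mem, by simp⟩
      inv_mem' := by
        rintro _ ⟨a, ha, b, hb, rfl⟩
        refine ⟨a⁻¹, A.inv_mem ha, b⁻¹, B.inv_mem hb, ?_⟩
        rw [mul_inv_rev]
        exact (hc a⁻¹ (A.inv_mem ha) b⁻¹ (B.inv_mem hb)).symm }
  have hle : A ⊔ B ≤ S := by
    apply sup_le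
    · intro a ha
      exact ⟨a, ha, 1, B.one_mem, by simp⟩
    · intro b hb
      exact ⟨1, A.one_mem, b, hb, by simp⟩
  exact hle hx

/-- [B2-PARTCJ] -/
theorem partner_cj (α : Ω) (k : G) (hk : k ∈ stabilizer G α) (A B : Subgroup G)
    (hAB : stabilizer G α ⊓ (A ⊔ B) ≠ ⊥) : stabilizer G α ⊓ (cj k A ⊔ cj k B) ≠ ⊥ := by
  intro hbot
  apply hAB
  rw [Subgroup.eq_bot_iff_forall]
  intro x hx
  have hx' := Subgroup.mem_inf.1 hx
  have h1 : k * x * k⁻¹ ∈ stabilizer G α ⊓ (cj k A ⊔ cj k B) := by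
    apply Subgroup.mem_inf.2
    refine ⟨?_, ?_⟩
    · exact Subgroup.mul_mem _ (Subgroup.mul_mem _ hk hx'.1) (Subgroup.inv_mem _ hk)
    · rw [← s93_b2pproj_cj_sup]
      exact conj_mem_cj k _ x hx'.2
  rw [hbot, Subgroup.mem_bot] at h1
  calc x = k⁻¹ * (k * x * k⁻¹) * k := by group
    _ = 1 := by rw [h1]; group

variable {α : Ω} {N T : Subgroup G}

/-- [B2-PPROJ] -/
theorem b2_partner_proj [Finite G] [FaithfulSMul G Ω] (h : BCtx α N T)
    (hproj : ∀ t ∈ T, Proj α N T t) (T' : Subgroup G) (hp : IsPartner α T T') :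
    ∀ t ∈ T, ∃ u ∈ T', t * u ∈ stabilizer G α := by
  obtain ⟨hne, ⟨g, rfl⟩, hK⟩ := hp
  have hTN : T ≤ N := h.minIn.2.1
  -- `T` and `T'` commute elementwise
  have hcomm : ∀ a ∈ T, ∀ b ∈ cj g T, a * b = b * a := by
    rcases dich h 1 g with h1 | h1
    · rw [cj_one] at h1
      exact absurd h1.symm hne
    · have := h1.2
      rw [cj_one] at this
      exact this
  -- the subgroup `P'`
  let P : Subgroup G :=
    { carrier := {t | t ∈ T ∧ ∃ u ∈ cj g T, t * u ∈ stabilizer G α}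
      mul_mem' := by
        rintro t₁ t₂ ⟨ht₁, u₁, hu₁, h₁⟩ ⟨ht₂, u₂, hu₂, h₂⟩
        refine ⟨T.mul_mem ht₁ ht₂, u₁ * u₂, (cj g T).mul_mem hu₁ hu₂, ?_⟩
        have : t₁ * t₂ * (u₁ * u₂) = (t₁ * u₁) * (t₂ * u₂) := by
          calc t₁ * t₂ * (u₁ * u₂) = t₁ * (t₂ * u₁) * u₂ := by group
            _ = t₁ * (u₁ * t₂) * u₂ := by rw [hcomm t₂ ht₂ u₁ hu₁]
            _ = (t₁ * u₁) * (t₂ * u₂) := by group
        rw [this]
        exact Subgroup.mul_mem _ h₁ h₂
      one_mem' := ⟨T.one_mem, 1, (cj g T).one_mem, by rw [mul_one]; exact Subgroup.one_mem _⟩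
      inv_mem' := by
        rintro t ⟨ht, u, hu, h₁⟩
        refine ⟨T.inv_mem ht, u⁻¹, (cj g T).inv_mem hu, ?_⟩
        have : t⁻¹ * u⁻¹ = (t * u)⁻¹ := by
          rw [mul_inv_rev]
          exact hcomm t⁻¹ (T.inv_mem ht) u⁻¹ ((cj g T).inv_mem hu)
        rw [this]
        exact Subgroup.inv_mem _ h₁ }
  have hPT : P ≤ T := fun t ht => ht.1
  -- `P` is normalized by `T`
  have hPn : (P.subgroupOf T).Normal := by
    constructor
    intro x hx s
    obtain ⟨hxT, u, hu, hxu⟩ : (x : G) ∈ P := hx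
    obtain ⟨e, he, hse⟩ := hproj (s : G) s.2
    have he' := Subgroup.mem_inf.1 he
    have heN : e ∈ N := he'.1
    have hec : ∀ t ∈ T, t * e = e * t := Subgroup.mem_centralizer_iff.1 he'.2
    set r : G := (s : G) * e with hr
    have hrN : r ∈ N := N.mul_mem (hTN s.2) heN
    have h1 : r * (x : G) * r⁻¹ = (s : G) * (x : G) * (s : G)⁻¹ := by
      rw [hr, mul_inv_rev]
      calc (s : G) * e * (x : G) * (e⁻¹ * (s : G)⁻¹)
          = (s : G) * (e * (x : G)) * e⁻¹ * (s : G)⁻¹ := by group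
        _ = (s : G) * ((x : G) * e) * e⁻¹ * (s : G)⁻¹ := by rw [hec (x : G) hxT]
        _ = (s : G) * (x : G) * (s : G)⁻¹ := by group
    have h2 : r * u * r⁻¹ ∈ cj g T := by
      have h3 := cj_of_mem_N h g r hrN
      rw [← h3]
      exact conj_mem_cj r _ u hu
    show ((s * x * s⁻¹ : ↥T) : G) ∈ P
    refine ⟨(s * x * s⁻¹ : ↥T).2, r * u * r⁻¹, h2, ?_⟩
    have h4 : ((s * x * s⁻¹ : ↥T) : G) * (r * u * r⁻¹) = r * ((x : G) * u) * r⁻¹ := by
      have : ((s * x * s⁻¹ : ↥T) : G) = (s : G) * (x : G) * (s : G)⁻¹ := by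
        simp
      rw [this, ← h1]
      group
    rw [h4]
    exact Subgroup.mul_mem _ (Subgroup.mul_mem _ hse hxu) (Subgroup.inv_mem _ hse)
  -- `P` is nontrivial
  have hPne : P.subgroupOf T ≠ ⊥ := by
    intro hbot
    apply hK
    rw [Subgroup.eq_bot_iff_forall]
    intro x hx
    have hx' := Subgroup.mem_inf.1 hx
    obtain ⟨s, hs, s', hs', rfl⟩ := s93_b2pproj_mem_sup hcomm x hx'.2
    have hsP : s ∈ P := ⟨hs, s', hs', hx'.1⟩
    have hs1 : s = 1 := by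
      have h5 : (⟨s, hs⟩ : ↥T) ∈ P.subgroupOf T := hsP
      rw [hbot, Subgroup.mem_bot] at h5
      exact congrArg Subtype.val h5
    rw [hs1, one_mul] at hx' ⊢
    have h6 : s' ∈ stabilizer G α ⊓ cj g T := Subgroup.mem_inf.2 ⟨hx'.1, hs'⟩
    rw [b2_inf_cj h hproj g, Subgroup.mem_bot] at h6
    exact h6
  have := h.simpleT
  have htop : P.subgroupOf T = ⊤ := (hPn.eq_bot_or_eq_top).resolve_left hPne
  intro t ht
  have h7 : (⟨t, ht⟩ : ↥T) ∈ P.subgroupOf T := by rw [htop]; exact Subgroup.mem_top _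
  obtain ⟨_, u, hu, htu⟩ : t ∈ P := h7
  exact ⟨u, hu, htu⟩

end R

end Cfsg.Agent.Helper13.S93
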