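import Mathlib
import Cfsg.Agent.Lib.Helper13.S93Defs

/-!
# S3493 piece S93-B2PUNIQ, core: the partner of `T` is unique
(the pieces `dich`, `b2_inf`, `noncommT`, `b2_partner_proj` enter as hypotheses).
-/

set_option autoImplicit false

namespace Cfsg.Agent.Helper13.S93

open MulAction Cfsg.Agent.S0721

universe u v

section R

variable {G : Type u} [Group G] {Ω : Type v} [MulAction G Ω]

variable {α : Ω} {N T : Subgroup G}

/-- a conjugate of `T` different from `T` commutes with `T` elementwise -/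
theorem s93_b2puniq_comm
    (hdich : ∀ g g' : G, cj g T = cj g' T ∨
      (cj g T ⊓ cj g' T = ⊥ ∧ ∀ a ∈ cj g T, ∀ b ∈ cj g' T, a * b = b * a))
    (T' : Subgroup G) (hne : T' ≠ T) (hcj : ∃ g : G, T' = cj g T) :
    ∀ a ∈ T', ∀ b ∈ T, a * b = b * a := by
  obtain ⟨g, rfl⟩ := hcj
  rcases hdich g 1 with h1 | h1
  · rw [cj_one] at h1
    exact absurd h1 hne
  · have h2 := h1.2
    rw [cj_one] at h2
    exact h2

theorem s93_b2puniq_core
    (hdich : ∀ g g' : G, cj g T = cj g' T ∨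
      (cj g T ⊓ cj g' T = ⊥ ∧ ∀ a ∈ cj g T, ∀ b ∈ cj g' T, a * b = b * a))
    (hinf : stabilizer G α ⊓ T = ⊥)
    (hnc : ∃ a ∈ T, ∃ b ∈ T, a * b ≠ b * a)
    (hpp : ∀ T' : Subgroup G, IsPartner α T T' → ∀ t ∈ T, ∃ u ∈ T', t * u ∈ stabilizer G α)
    (T' T'' : Subgroup G) (hp' : IsPartner α T T') (hp'' : IsPartner α T T'') : T' = T'' := by
  by_contra hne
  obtain ⟨s, hs, u, hu, hsu⟩ := hnc
  apply hsu
  have hc' := s93_b2puniq_comm hdich T' hp'.1 hp'.2.1
  have hc'' := s93_b2puniq_comm hdich T'' hp''.1 hp''.2.1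
  have hc : ∀ a ∈ T', ∀ b ∈ T'', a * b = b * a := by
    obtain ⟨g', hg'⟩ := hp'.2.1
    obtain ⟨g'', hg''⟩ := hp''.2.1
    rcases hdich g' g'' with h1 | h1
    · exact absurd (hg'.trans (h1.trans hg''.symm)) hne
    · rw [hg', hg'']
      exact h1.2
  obtain ⟨s', hs', hss'⟩ := hpp T' hp' s hs
  obtain ⟨u'', hu'', huu''⟩ := hpp T'' hp'' u hu
  have hK : (s * s') * (u * u'') * (s * s')⁻¹ * (u * u'')⁻¹ ∈ stabilizer G α :=
    Subgroup.mul_mem _ (Subgroup.mul_mem _ (Subgroup.mul_mem _ hss' huu'')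
      (Subgroup.inv_mem _ hss')) (Subgroup.inv_mem _ huu'')
  have e1 : s' * u = u * s' := hc' s' hs' u hu
  have e2 : s' * u'' = u'' * s' := hc s' hs' u'' hu''
  have e3 : u'' * s = s * u'' := hc'' u'' hu'' s hs
  have hxy : (s * s') * (u * u'') = (s * u) * (s' * u'') := by
    calc (s * s') * (u * u'') = s * (s' * u) * u'' := by group
      _ = s * (u * s') * u'' := by rw [e1]
      _ = (s * u) * (s' * u'') := by group
  have hyx : (u * u'') * (s * s') = (u * s) * (s' * u'') := by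
    calc (u * u'') * (s * s') = u * (u'' * s) * s' := by group
      _ = u * (s * u'') * s' := by rw [e3]
      _ = (u * s) * (u'' * s') := by group
      _ = (u * s) * (s' * u'') := by rw [e2]
  have hcomm : (s * s') * (u * u'') * (s * s')⁻¹ * (u * u'')⁻¹ = s * u * s⁻¹ * u⁻¹ := by
    have h1 : (s * s') * (u * u'') * (s * s')⁻¹ * (u * u'')⁻¹ =
        ((s * s') * (u * u'')) * ((u * u'') * (s * s'))⁻¹ := by group
    rw [h1, hxy, hyx]
    group
  rw [hcomm] at hK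
  have hT : s * u * s⁻¹ * u⁻¹ ∈ T :=
    T.mul_mem (T.mul_mem (T.mul_mem hs hu) (T.inv_mem hs)) (T.inv_mem hu)
  have h1 : s * u * s⁻¹ * u⁻¹ ∈ stabilizer G α ⊓ T := Subgroup.mem_inf.2 ⟨hK, hT⟩
  rw [hinf, Subgroup.mem_bot] at h1
  calc s * u = (s * u * s⁻¹ * u⁻¹) * (u * s) := by group
    _ = u * s := by rw [h1, one_mul]

end R

end Cfsg.Agent.Helper13.S93
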