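import Mathlib
import Cfsg.Agent.Lib.Helper13.S93Defs
import Cfsg.Agent.Lib.S93.S93RDICH
import Cfsg.Agent.Lib.S93.S93RNONCOMMT
import Cfsg.Agent.Lib.S93.S93B2INF
import Cfsg.Agent.Lib.S93.S93B2PPROJ
import Cfsg.Agent.Lib.S93.S93B2PUNIQCore

/-!
# S3493 piece S93-B2PUNIQ: the partner of `T` is unique.
-/

set_option autoImplicit false

namespace Cfsg.Agent.Helper13.S93

open MulAction Cfsg.Agent.S0721

universe u v

section R

variable {G : Type u} [Group G] {Ω : Type v} [MulAction G Ω]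

variable {α : Ω} {N T : Subgroup G}

/-- [B2-PUNIQ] -/
theorem b2_partner_unique [Finite G] [FaithfulSMul G Ω] (h : BCtx α N T)
    (hproj : ∀ t ∈ T, Proj α N T t) (T' T'' : Subgroup G) (hp' : IsPartner α T T')
    (hp'' : IsPartner α T T'') : T' = T'' :=
  s93_b2puniq_core (dich h) (b2_inf h hproj) (noncommT h)
    (fun T₁ hp₁ => b2_partner_proj h hproj T₁ hp₁) T' T'' hp' hp''

end R

end Cfsg.Agent.Helper13.S93
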