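import Mathlib
import Cfsg.Agent.Lib.Helper13.S93Defs
import Cfsg.Agent.Lib.S93.S93RDICH
import Cfsg.Agent.Lib.S93.S93RNONCOMMT
import Cfsg.Agent.Lib.S93.S93B2INF

/-!
# S3493 farm-out (helper13), piece S93-B2STAB: `b2_stab_sub`, `b2_moving`.
-/

set_option autoImplicit false

namespace Cfsg.Agent.Helper13.S93

open MulAction Cfsg.Agent.S0721

universe u v

section R

variable {G : Type u} [Group G] {Ω : Type v} [MulAction G Ω]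

variable {α : Ω} {N T : Subgroup G}

/-- [B2-STABSUB] -/
theorem b2_stab_sub [Finite G] [FaithfulSMul G Ω] (h : BCtx α N T)
    (hproj : ∀ t ∈ T, Proj α N T t) (t : G) (ht : t ∈ T) (ht1 : t ≠ 1) (k : G)
    (hk : k ∈ stabilizer G α) (hkt : k ∈ stabilizer G (t • α)) :
    cj k T = T ∨ IsPartner α T (cj k⁻¹ T) := by
  by_cases hkT : cj k T = T
  · exact Or.inl hkT
  right
  have hne : cj k⁻¹ T ≠ T := by
    intro h1
    apply hkT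
    have h2 : cj k (cj k⁻¹ T) = T := by
      rw [cj_cj, mul_inv_cancel, cj_one]
    rw [h1] at h2
    exact h2
  refine ⟨hne, ⟨k⁻¹, rfl⟩, ?_⟩
  have hx : k⁻¹ * t⁻¹ * k * t ∈ stabilizer G α := (stab_smul_iff α t k hk).1 hkt
  have hu : k⁻¹ * t⁻¹ * k ∈ cj k⁻¹ T := by
    rw [mem_cj]
    have e : (k⁻¹)⁻¹ * (k⁻¹ * t⁻¹ * k) * k⁻¹ = t⁻¹ := by group
    rw [e]
    exact T.inv_mem ht
  have hmem : k⁻¹ * t⁻¹ * k * t ∈ T ⊔ cj k⁻¹ T :=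
    Subgroup.mul_mem _ (Subgroup.mem_sup_right hu) (Subgroup.mem_sup_left ht)
  have hx1 : k⁻¹ * t⁻¹ * k * t ≠ 1 := by
    intro h1
    have e : k⁻¹ * t⁻¹ * k = t⁻¹ := by
      have := congrArg (fun y => y * t⁻¹) h1
      simpa [mul_assoc] using this
    have hd : cj k⁻¹ T ⊓ cj 1 T = ⊥ := by
      rcases dich h k⁻¹ 1 with h2 | h2
      · rw [cj_one] at h2
        exact absurd h2 hne
      · exact h2.1
    rw [cj_one] at hd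
    have hmem2 : t⁻¹ ∈ cj k⁻¹ T ⊓ T := by
      refine ⟨?_, T.inv_mem ht⟩
      rw [← e]
      exact hu
    rw [hd, Subgroup.mem_bot] at hmem2
    exact ht1 (inv_eq_one.1 hmem2)
  intro hbot
  have : k⁻¹ * t⁻¹ * k * t ∈ stabilizer G α ⊓ (T ⊔ cj k⁻¹ T) := ⟨hx, hmem⟩
  rw [hbot, Subgroup.mem_bot] at this
  exact hx1 this

/-- [B2-MOVING] -/
theorem b2_moving [Finite G] [FaithfulSMul G Ω] (h : BCtx α N T)
    (hproj : ∀ t ∈ T, Proj α N T t) (t : G) (ht : t ∈ T) (ht1 : t ≠ 1) :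
    ∃ r ∈ stabilizer G α ⊓ N, r ∉ stabilizer G (t • α) := by
  -- some `t₁ ∈ T` does not commute with `t`
  have hex : ∃ t₁ ∈ T, t * t₁ ≠ t₁ * t := by
    by_contra hcon
    push Not at hcon
    exact ht1 (centerT h t ht hcon)
  obtain ⟨t₁, ht₁, hnc⟩ := hex
  obtain ⟨e, he, hr⟩ := hproj t₁ ht₁
  have heN : e ∈ N := he.1
  have heC : e ∈ Subgroup.centralizer (T : Set G) := he.2
  have hTN : T ≤ N := h.minIn.2.1
  refine ⟨t₁ * e, ⟨hr, N.mul_mem (hTN ht₁) heN⟩, ?_⟩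
  intro hst
  have hx : (t₁ * e)⁻¹ * t⁻¹ * (t₁ * e) * t ∈ stabilizer G α :=
    (stab_smul_iff α t (t₁ * e) hr).1 hst
  -- `e` commutes with `t₁⁻¹ * t⁻¹ * t₁`
  have hy : t₁⁻¹ * t⁻¹ * t₁ ∈ T := T.mul_mem (T.mul_mem (T.inv_mem ht₁) (T.inv_mem ht)) ht₁
  have hce : (t₁⁻¹ * t⁻¹ * t₁) * e = e * (t₁⁻¹ * t⁻¹ * t₁) := by
    rw [Subgroup.mem_centralizer_iff] at heC
    exact heC _ hy
  have e1 : (t₁ * e)⁻¹ * t⁻¹ * (t₁ * e) * t = t₁⁻¹ * t⁻¹ * t₁ * t := by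
    calc (t₁ * e)⁻¹ * t⁻¹ * (t₁ * e) * t = e⁻¹ * ((t₁⁻¹ * t⁻¹ * t₁) * e) * t := by group
      _ = e⁻¹ * (e * (t₁⁻¹ * t⁻¹ * t₁)) * t := by rw [hce]
      _ = t₁⁻¹ * t⁻¹ * t₁ * t := by group
  rw [e1] at hx
  have hmem : t₁⁻¹ * t⁻¹ * t₁ * t ∈ stabilizer G α ⊓ T := ⟨hx, T.mul_mem hy ht⟩
  rw [b2_inf h hproj, Subgroup.mem_bot] at hmem
  apply hnc
  calc t * t₁ = t * t₁ * (t₁⁻¹ * t⁻¹ * t₁ * t) := by rw [hmem, mul_one]
    _ = t₁ * t := by group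

end R

end Cfsg.Agent.Helper13.S93
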