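import Mathlib
import Cfsg.Agent.Lib.Helper13.S93Defs
import Cfsg.Agent.Lib.S93.S93B2FARCore
import Cfsg.Agent.Lib.S93.S93RFACTOR
import Cfsg.Agent.Lib.S93.S93B2STAB
import Cfsg.Agent.Lib.S93.S93B2PUNIQ

/-!
# S3493 piece S93-B2FAR: a partner `T₂` of `T` with `T ⊔ T₂ ≠ N` is impossible.
-/

set_option autoImplicit false
set_option linter.unusedVariables false

namespace Cfsg.Agent.Helper13.S93

open MulAction Cfsg.Agent.S0721

universe u v

section R

variable {G : Type u} [Group G] {Ω : Type v} [MulAction G Ω]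

variable {α : Ω} {N T : Subgroup G}

/-- [B2-FAR] -/
theorem b2_partner_far [Finite G] [FaithfulSMul G Ω] (h : BCtx α N T) (hTN : T ≠ N)
    (hproj : ∀ t ∈ T, Proj α N T t) (T₂ : Subgroup G) (hp : IsPartner α T T₂)
    (hne : T ⊔ T₂ ≠ N) : False :=
  s93_b2far_core h
    (fun t ht ht1 k hk hkt => b2_stab_sub h hproj t ht ht1 k hk hkt)
    (fun t ht ht1 => b2_moving h hproj t ht ht1)
    (fun T' T'' hp' hp'' => b2_partner_unique h hproj T' T'' hp' hp'')
    (fun g => factor h g)
    T₂ hp hne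

end R

end Cfsg.Agent.Helper13.S93
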