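import Mathlib
import Cfsg.Agent.Lib.Helper13.S93Defs
import Cfsg.Agent.Lib.S93.S93RDICH
import Cfsg.Agent.Lib.S93.S93RFACTOR
import Cfsg.Agent.Lib.S93.S93B2STAB

/-! S3493 piece S93-B2NOPART (helper15). -/

set_option autoImplicit false

namespace Cfsg.Agent.Helper13.S93

open MulAction Cfsg.Agent.S0721

universe u v

section R

variable {G : Type u} [Group G] {Ω : Type v} [MulAction G Ω]

variable {α : Ω} {N T : Subgroup G}

/-- [B2-NOPART] -/
theorem b2_no_partner [Finite G] [FaithfulSMul G Ω] (h : BCtx α N T) (hTN : T ≠ N)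
    (hproj : ∀ t ∈ T, Proj α N T t) (hno : ∀ T' : Subgroup G, ¬ IsPartner α T T') : False := by
  -- a nontrivial element of `T`
  obtain ⟨t, ht, ht1⟩ : ∃ t ∈ T, t ≠ 1 := by
    by_contra hcon
    push Not at hcon
    apply h.minIn.1
    rw [Subgroup.eq_bot_iff_forall]
    exact hcon
  set L : Subgroup G := stabilizer G α ⊓ Subgroup.normalizer (T : Set G) with hL
  have h1 : stabilizer G α ⊓ stabilizer G (t • α) ≤ L := by
    intro k hk
    have hk' := Subgroup.mem_inf.1 hk
    apply Subgroup.mem_inf.2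
    refine ⟨hk'.1, ?_⟩
    apply (cj_eq_self_iff k T).1
    rcases b2_stab_sub h hproj t ht ht1 k hk'.1 hk'.2 with h2 | h2
    · exact h2
    · exact absurd h2 (hno _)
  have h2 : L ≤ stabilizer G α := inf_le_left
  rcases h.nb (t • α) L h1 h2 with h3 | h3
  · -- `L` is strictly larger than `K ⊓ G_{tα}`
    obtain ⟨r, hr, hrt⟩ := b2_moving h hproj t ht ht1
    have hr' := Subgroup.mem_inf.1 hr
    have hrL : r ∈ L := by
      apply Subgroup.mem_inf.2
      refine ⟨hr'.1, ?_⟩
      apply (cj_eq_self_iff r T).1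
      have := cj_of_mem_N h 1 r hr'.2
      rw [cj_one] at this
      exact this
    rw [h3] at hrL
    exact hrt (Subgroup.mem_inf.1 hrL).2
  · -- `L ≠ K`
    obtain ⟨k, hk, hkT⟩ := exists_cj_ne h hTN
    apply hkT
    apply (cj_eq_self_iff k T).2
    have : k ∈ L := by rw [h3]; exact hk
    exact (Subgroup.mem_inf.1 this).2

end R

end Cfsg.Agent.Helper13.S93
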