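import Mathlib
import Cfsg.Agent.Lib.Helper13.S93Defs
import Cfsg.Agent.Lib.S93.S93RDICH
import Cfsg.Agent.Lib.S93.S93RFACTOR
import Cfsg.Agent.Lib.S93.S93B2PPROJ
import Cfsg.Agent.Lib.S93.S93B2PUNIQ

/-!
# S3493 piece S93-B2PSYMM: the partner relation projects symmetrically
-/

set_option autoImplicit false

namespace Cfsg.Agent.Helper13.S93

open MulAction Cfsg.Agent.S0721

universe u v

section R

variable {G : Type u} [Group G] {Ω : Type v} [MulAction G Ω]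

variable {α : Ω} {N T : Subgroup G}

/-- the core of [B2-PSYMM]: the other pieces enter as hypotheses -/
theorem s93_b2psymm_core
    (hdich : ∀ g g' : G, cj g T = cj g' T ∨
      (cj g T ⊓ cj g' T = ⊥ ∧ ∀ a ∈ cj g T, ∀ b ∈ cj g' T, a * b = b * a))
    (hcjstab : ∀ g : G, ∃ k ∈ stabilizer G α, cj g T = cj k T)
    (hpcj : ∀ k : G, k ∈ stabilizer G α → ∀ A B : Subgroup G,
      stabilizer G α ⊓ (A ⊔ B) ≠ ⊥ → stabilizer G α ⊓ (cj k A ⊔ cj k B) ≠ ⊥)
    (hpp : ∀ T' : Subgroup G, IsPartner α T T' → ∀ t ∈ T, ∃ u ∈ T', t * u ∈ stabilizer G α)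
    (huniq : ∀ T' T'' : Subgroup G, IsPartner α T T' → IsPartner α T T'' → T' = T'')
    (T₂ : Subgroup G) (hp : IsPartner α T T₂) :
    ∀ u ∈ T₂, ∃ s ∈ T, s * u ∈ stabilizer G α := by
  obtain ⟨hne, ⟨g, hg⟩, hK⟩ := hp
  have hp' : IsPartner α T T₂ := ⟨hne, ⟨g, hg⟩, hK⟩
  obtain ⟨k, hk, hgk⟩ := hcjstab g
  have hT₂ : T₂ = cj k T := hg.trans hgk
  have hkinv : k⁻¹ ∈ stabilizer G α := (stabilizer G α).inv_mem hk
  -- `cj k⁻¹ T` is a partner of `T`
  have hback : cj k⁻¹ T₂ = T := by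
    rw [hT₂, cj_cj, inv_mul_cancel, cj_one]
  have hpart : IsPartner α T (cj k⁻¹ T) := by
    refine ⟨?_, ⟨k⁻¹, rfl⟩, ?_⟩
    · intro heq
      apply hne
      rw [hT₂]
      have : cj k (cj k⁻¹ T) = cj k T := by rw [heq]
      rw [cj_cj, mul_inv_cancel, cj_one] at this
      exact this.symm
    · have h1 := hpcj k⁻¹ hkinv T T₂ hK
      rw [hback, sup_comm] at h1
      exact h1
  have heq : cj k⁻¹ T = T₂ := huniq _ _ hpart hp'
  have hfwd : cj k T₂ = T := by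
    rw [← heq, cj_cj, mul_inv_cancel, cj_one]
  -- `T₂` and `T` commute elementwise
  have hcomm : ∀ a ∈ T₂, ∀ b ∈ T, a * b = b * a := by
    intro a ha b hb
    rcases hdich k 1 with h1 | h1
    · exfalso
      apply hne
      rw [hT₂, h1, cj_one]
    · have ha' : a ∈ cj k T := hT₂ ▸ ha
      have hb' : b ∈ cj 1 T := by rw [cj_one]; exact hb
      exact h1.2 a ha' b hb'
  intro u hu
  have hu' : k⁻¹ * u * k ∈ T := by
    have : u ∈ cj k T := hT₂ ▸ hu
    exact (mem_cj k T u).1 this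
  obtain ⟨u', hu'T₂, hmem⟩ := hpp T₂ hp' _ hu'
  -- conjugate back by `k`
  have hs : k * u' * k⁻¹ ∈ T := by
    rw [← hfwd]
    exact conj_mem_cj k T₂ u' hu'T₂
  refine ⟨k * u' * k⁻¹, hs, ?_⟩
  have hconj : k * (k⁻¹ * u * k * u') * k⁻¹ ∈ stabilizer G α :=
    (stabilizer G α).mul_mem ((stabilizer G α).mul_mem hk hmem) hkinv
  have hrew : k * (k⁻¹ * u * k * u') * k⁻¹ = u * (k * u' * k⁻¹) := by group
  rw [hrew, hcomm u hu _ hs] at hconj
  exact hconj

/-- [B2-PSYMM] -/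
theorem b2_partner_proj_symm [Finite G] [FaithfulSMul G Ω] (h : BCtx α N T)
    (hproj : ∀ t ∈ T, Proj α N T t) (T₂ : Subgroup G) (hp : IsPartner α T T₂) :
    ∀ u ∈ T₂, ∃ s ∈ T, s * u ∈ stabilizer G α :=
  s93_b2psymm_core (dich h) (cj_stab h) (fun k hk A B hAB => partner_cj α k hk A B hAB)
    (fun T' hp' => b2_partner_proj h hproj T' hp')
    (fun T' T'' hp' hp'' => b2_partner_unique h hproj T' T'' hp' hp'') T₂ hp

end R

end Cfsg.Agent.Helper13.S93
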