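import Mathlib
import Cfsg.Agent.Lib.Helper13.S93Defs
import Cfsg.Agent.Lib.S93.S93RDICH
import Cfsg.Agent.Lib.S93.S93RCENTERN

/-!
# S3493 piece S93-B2SWAP, core (helper22): `β k` is anti-multiplicative when `k` swaps `T` and its
partner.  The conclusion of `b2_inf` (`G_α ⊓ T = ⊥`) is a hypothesis here; the wrapper
`S93B2SWAP.lean` discharges it.
-/

set_option autoImplicit false
set_option linter.unusedVariables false
set_option linter.unusedSectionVars false

namespace Cfsg.Agent.Helper13.S93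

open MulAction Cfsg.Agent.S0721

universe u v

section R

variable {G : Type u} [Group G] {Ω : Type v} [MulAction G Ω]

variable {α : Ω} {N T : Subgroup G}

/-- a conjugate of `T` different from `T` and from the partner `T₂` would be central in `N = T T₂`. -/
theorem s93_b2swap_cj_eq [Finite G] (h : BCtx α N T) (T₂ : Subgroup G) (hp : IsPartner α T T₂)
    (hN : T ⊔ T₂ = N) (k : G) (hk : cj k T ≠ T) : cj k T = T₂ := by
  obtain ⟨hne, ⟨g, hg⟩, -⟩ := hp
  by_contra hne2
  -- `cj k T` commutes elementwise with `T` and with `T₂`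
  have h1 : ∀ a ∈ cj k T, ∀ b ∈ T, a * b = b * a := by
    rcases dich h k 1 with he | ⟨-, hc⟩
    · rw [cj_one] at he
      exact (hk he).elim
    · rw [cj_one] at hc
      exact hc
  have h2 : ∀ a ∈ cj k T, ∀ b ∈ T₂, a * b = b * a := by
    rcases dich h k g with he | ⟨-, hc⟩
    · rw [← hg] at he
      exact (hne2 he).elim
    · rw [← hg] at hc
      exact hc
  -- hence with `N`
  have h3 : ∀ a ∈ cj k T, ∀ n ∈ N, a * n = n * a := by
    intro a ha n hn
    rw [← hN] at hn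
    have hle : T ⊔ T₂ ≤ Subgroup.centralizer ({a} : Set G) := by
      apply sup_le
      · intro b hb
        rw [Subgroup.mem_centralizer_iff]
        intro x hx
        rw [Set.mem_singleton_iff] at hx
        subst hx
        exact h1 x ha b hb
      · intro b hb
        rw [Subgroup.mem_centralizer_iff]
        intro x hx
        rw [Set.mem_singleton_iff] at hx
        subst hx
        exact h2 x ha b hb
    have := hle hn
    rw [Subgroup.mem_centralizer_iff] at this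
    exact this a rfl
  -- so `cj k T = ⊥`
  have h4 : cj k T = ⊥ := by
    rw [eq_bot_iff]
    intro a ha
    rw [Subgroup.mem_bot]
    exact centerN h a (cj_le_N h k ha) (h3 a ha)
  rw [cj_eq_bot] at h4
  exact h.minIn.1 h4

/-- [B2-BETASWAP], with `G_α ⊓ T = ⊥` as a hypothesis. -/
theorem s93_b2swap_core [Finite G] (h : BCtx α N T)
    (hinf : stabilizer G α ⊓ T = ⊥) (T₂ : Subgroup G) (hp : IsPartner α T T₂)
    (hN : T ⊔ T₂ = N) (β : ↥(stabilizer G α) →* Equiv.Perm ↥T)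
    (hβ : ∀ (k : ↥(stabilizer G α)) (t : ↥T), ((β k t : ↥T) : G) • α = (k : G) • ((t : G) • α))
    (k : ↥(stabilizer G α)) (hk : cj (k : G) T ≠ T) :
    ∀ x y : ↥T, β k (x * y) = β k y * β k x := by
  have hcj : cj (k : G) T = T₂ := s93_b2swap_cj_eq h T₂ hp hN (k : G) hk
  obtain ⟨hne, ⟨g, hg⟩, -⟩ := hp
  -- `T` and `T₂` commute elementwise
  have hcomm : ∀ a ∈ T, ∀ b ∈ T₂, a * b = b * a := by
    rcases dich h 1 g with he | ⟨-, hc⟩
    · rw [cj_one, ← hg] at he
      exact (hne he.symm).elim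
    · rw [cj_one, ← hg] at hc
      exact hc
  have hkα : (k : G) • α = α := mem_stabilizer_iff.mp k.2
  -- the basic fact: `(β k t)⁻¹ * (k t k⁻¹) ∈ G_α`
  have hbase : ∀ t : ↥T, ((β k t : ↥T) : G)⁻¹ * ((k : G) * (t : G) * (k : G)⁻¹) ∈ stabilizer G α := by
    intro t
    rw [mem_stabilizer_iff, mul_smul, inv_smul_eq_iff, hβ k t, mul_smul, mul_smul]
    congr 2
    rw [inv_smul_eq_iff, hkα]
  have hu : ∀ t : ↥T, (k : G) * (t : G) * (k : G)⁻¹ ∈ T₂ := by
    intro t
    rw [← hcj]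
    exact conj_mem_cj (k : G) T (t : G) t.2
  intro x y
  set a : G := ((β k x : ↥T) : G) with ha
  set b : G := ((β k y : ↥T) : G) with hb
  set c : G := ((β k (x * y) : ↥T) : G) with hc
  set ux : G := (k : G) * (x : G) * (k : G)⁻¹ with hux
  set uy : G := (k : G) * (y : G) * (k : G)⁻¹ with huy
  have haT : a ∈ T := (β k x).2
  have hbT : b ∈ T := (β k y).2
  have hcT : c ∈ T := (β k (x * y)).2
  have h1 : a⁻¹ * ux ∈ stabilizer G α := hbase x
  have h2 : b⁻¹ * uy ∈ stabilizer G α := hbase y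
  have h3 : c⁻¹ * (ux * uy) ∈ stabilizer G α := by
    have := hbase (x * y)
    have e : (k : G) * ((x * y : ↥T) : G) * (k : G)⁻¹ = ux * uy := by
      rw [hux, huy, Subgroup.coe_mul]
      group
    rw [e] at this
    exact this
  -- `ux` commutes with `b⁻¹`
  have hcm : b⁻¹ * ux = ux * b⁻¹ := hcomm b⁻¹ (T.inv_mem hbT) ux (hu x)
  have h4 : (a⁻¹ * ux) * (b⁻¹ * uy) * (c⁻¹ * (ux * uy))⁻¹ ∈ stabilizer G α :=
    (stabilizer G α).mul_mem ((stabilizer G α).mul_mem h1 h2) ((stabilizer G α).inv_mem h3)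
  have e4 : (a⁻¹ * ux) * (b⁻¹ * uy) * (c⁻¹ * (ux * uy))⁻¹ = a⁻¹ * b⁻¹ * c := by
    calc (a⁻¹ * ux) * (b⁻¹ * uy) * (c⁻¹ * (ux * uy))⁻¹
        = a⁻¹ * (ux * b⁻¹) * uy * (c⁻¹ * (ux * uy))⁻¹ := by group
      _ = a⁻¹ * (b⁻¹ * ux) * uy * (c⁻¹ * (ux * uy))⁻¹ := by rw [hcm]
      _ = a⁻¹ * b⁻¹ * c := by group
  rw [e4] at h4
  have h5 : a⁻¹ * b⁻¹ * c ∈ stabilizer G α ⊓ T :=
    ⟨h4, T.mul_mem (T.mul_mem (T.inv_mem haT) (T.inv_mem hbT)) hcT⟩
  rw [hinf, Subgroup.mem_bot] at h5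
  apply Subtype.ext
  rw [Subgroup.coe_mul]
  show c = b * a
  calc c = b * a * (a⁻¹ * b⁻¹ * c) := by group
    _ = b * a := by rw [h5, mul_one]

end R

end Cfsg.Agent.Helper13.S93
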