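import Mathlib
import Cfsg.Agent.Lib.Helper13.S93Defs
import Cfsg.Agent.Lib.S93.S93B2INF
import Cfsg.Agent.Lib.S93.S93B2SWAPCore

/-!
# S3493 piece S93-B2SWAP (helper22): `β k` is anti-multiplicative when `k` swaps `T` and its partner.
-/

set_option autoImplicit false
set_option linter.unusedVariables false
set_option linter.unusedSectionVars false

namespace Cfsg.Agent.Helper13.S93

open MulAction Cfsg.Agent.S0721

universe u v

section R

variable {G : Type u} [Group G] {Ω : Type v} [MulAction G Ω]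

variable {α : Ω} {N T : Subgroup G}

/-- [B2-BETASWAP] -/
theorem b2_beta_swap [Finite G] [FaithfulSMul G Ω] (h : BCtx α N T)
    (hproj : ∀ t ∈ T, Proj α N T t) (T₂ : Subgroup G) (hp : IsPartner α T T₂)
    (hN : T ⊔ T₂ = N) (β : ↥(stabilizer G α) →* Equiv.Perm ↥T)
    (hβ : ∀ (k : ↥(stabilizer G α)) (t : ↥T), ((β k t : ↥T) : G) • α = (k : G) • ((t : G) • α))
    (k : ↥(stabilizer G α)) (hk : cj (k : G) T ≠ T) :
    ∀ x y : ↥T, β k (x * y) = β k y * β k x :=
  s93_b2swap_core h (b2_inf h hproj) T₂ hp hN β hβ k hk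

end R

end Cfsg.Agent.Helper13.S93
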