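import Mathlib
import Cfsg.Agent.Lib.Helper13.S93Defs

/-!
# S3493 piece S93-RBETA: transport of the action of the point stabilizer to a regular subgroup
-/

set_option autoImplicit false

namespace Cfsg.Agent.Helper13.S93

open MulAction Cfsg.Agent.S0721

universe u v

section R

variable {G : Type u} [Group G] {Ω : Type v} [MulAction G Ω]

theorem s93_rbeta_bijective (T : Subgroup G) (α : Ω)
    (hreg : ∀ ω : Ω, ∃! t : ↥T, (t : G) • α = ω) :
    Function.Bijective (fun t : ↥T => (t : G) • α) := by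
  constructor
  · intro a b hab
    obtain ⟨t, _, hu⟩ := hreg ((a : G) • α)
    have h1 : a = t := hu a rfl
    have h2 : b = t := hu b hab.symm
    rw [h1, h2]
  · intro ω
    obtain ⟨t, ht, _⟩ := hreg ω
    exact ⟨t, ht⟩

/-- [RB-EXISTS] -/
theorem exists_beta (T : Subgroup G) (α : Ω) (hreg : ∀ ω : Ω, ∃! t : ↥T, (t : G) • α = ω) :
    ∃ β : ↥(stabilizer G α) →* Equiv.Perm ↥T,
      ∀ (k : ↥(stabilizer G α)) (t : ↥T), ((β k t : ↥T) : G) • α = (k : G) • ((t : G) • α) := by
  obtain ⟨e, he⟩ : ∃ e : ↥T ≃ Ω, ∀ t : ↥T, e t = (t : G) • α :=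
    ⟨Equiv.ofBijective _ (s93_rbeta_bijective T α hreg), fun _ => rfl⟩
  refine ⟨(e.permCongrHom.symm.toMonoidHom).comp
    ((MulAction.toPermHom G Ω).comp (stabilizer G α).subtype), ?_⟩
  intro k t
  rw [← he, ← he]
  show e (e.symm ((k : G) • e t)) = _
  rw [Equiv.apply_symm_apply]

end R

end Cfsg.Agent.Helper13.S93
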