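import Mathlib
import Cfsg.Agent.Lib.Helper13.S93Defs

/-!
# S3493 piece S93-RMAXI: maximality of the stabilizers for the transported action
-/

set_option autoImplicit false

namespace Cfsg.Agent.Helper13.S93

open MulAction Cfsg.Agent.S0721

universe u v

section R

variable {G : Type u} [Group G] {Ω : Type v} [MulAction G Ω]

theorem s93_rmaxi_mem_stabB (α : Ω) (T : Subgroup G)
    (hreg : ∀ ω : Ω, ∃! t : ↥T, (t : G) • α = ω)
    (β : ↥(stabilizer G α) →* Equiv.Perm ↥T)
    (hβ : ∀ (k : ↥(stabilizer G α)) (t : ↥T), ((β k t : ↥T) : G) • α = (k : G) • ((t : G) • α))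
    (x : ↥T) (k : ↥(stabilizer G α)) :
    k ∈ stabB β x ↔ (k : G) • ((x : G) • α) = (x : G) • α := by
  rw [mem_stabB, ← hβ k x]
  constructor
  · intro h
    rw [h]
  · intro h
    obtain ⟨t, _, hu⟩ := hreg ((x : G) • α)
    have h1 : β k x = t := hu (β k x) h
    have h2 : x = t := hu x rfl
    rw [h1, h2]

/-- [RB-MAXI] -/
theorem maxi_of_beta (α : Ω) (hnb : NoBetween G α) (T : Subgroup G)
    (hreg : ∀ ω : Ω, ∃! t : ↥T, (t : G) • α = ω)
    (β : ↥(stabilizer G α) →* Equiv.Perm ↥T)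
    (hβ : ∀ (k : ↥(stabilizer G α)) (t : ↥T), ((β k t : ↥T) : G) • α = (k : G) • ((t : G) • α))
    (x : ↥T) (L : Subgroup ↥(stabilizer G α)) (hL : stabB β x ≤ L) :
    L = stabB β x ∨ L = ⊤ := by
  have hmem := s93_rmaxi_mem_stabB α T hreg β hβ x
  have h1 : stabilizer G α ⊓ stabilizer G ((x : G) • α) ≤ L.map (stabilizer G α).subtype := by
    intro g hg
    rw [Subgroup.mem_inf] at hg
    refine ⟨⟨g, hg.1⟩, hL ?_, rfl⟩
    rw [hmem]
    exact mem_stabilizer_iff.1 hg.2
  have h2 : L.map (stabilizer G α).subtype ≤ stabilizer G α := by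
    rintro g ⟨l, _, rfl⟩
    exact l.2
  rcases hnb ((x : G) • α) _ h1 h2 with h | h
  · left
    apply le_antisymm _ hL
    intro l hl
    have hl' : (l : G) ∈ L.map (stabilizer G α).subtype := ⟨l, hl, rfl⟩
    rw [h, Subgroup.mem_inf] at hl'
    rw [hmem]
    exact mem_stabilizer_iff.1 hl'.2
  · right
    rw [eq_top_iff]
    intro k _
    have hk : (k : G) ∈ L.map (stabilizer G α).subtype := by
      rw [h]
      exact k.2
    obtain ⟨l, hl, e⟩ := hk
    have : l = k := Subtype.ext e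
    rw [← this]
    exact hl

end R

end Cfsg.Agent.Helper13.S93
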