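import Mathlib
import Cfsg.Agent.Lib.Helper13.S93Defs

/-! S3493 farm-out (designer helper13), piece S93-RMINN. Proved by helper18. -/

set_option autoImplicit false

namespace Cfsg.Agent.Helper13.S93

open MulAction Cfsg.Agent.S0721

universe u v

section R

variable {G : Type u} [Group G] {Ω : Type v} [MulAction G Ω]

/-- [R-MINN] -/
theorem exists_minNormal [Finite G] [Fintype Ω] (hΩ : 2 ≤ Fintype.card Ω)
    (hprim : IsPreprimitive G Ω) : ∃ N : Subgroup G, Cfsg.Agent.S3680.IsMinNormal N := by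
  have htr : IsPretransitive G Ω := hprim.toIsPretransitive
  have h1 : 1 < Fintype.card Ω := hΩ
  obtain ⟨a, b, hab⟩ := Fintype.exists_pair_of_one_lt_card h1
  obtain ⟨g, hg⟩ := htr.exists_smul_eq a b
  have htop : (⊤ : Subgroup G) ≠ ⊥ := by
    intro h
    have hg1 : g ∈ (⊥ : Subgroup G) := by rw [← h]; exact Subgroup.mem_top g
    rw [Subgroup.mem_bot] at hg1
    rw [hg1, one_smul] at hg
    exact hab hg
  obtain ⟨M, hM, -⟩ := Cfsg.Agent.S3680.exists_isMinNormal_le (⊤ : Subgroup G) htop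
  exact ⟨M, hM⟩

/-- [R-AFF] -/
theorem affine_concl [FaithfulSMul G Ω] (hprim : IsPreprimitive G Ω) (N : Subgroup G)
    (hN : Cfsg.Agent.S3680.IsMinNormal N) (hc : ∀ a ∈ N, ∀ b ∈ N, a * b = b * a) :
    N.Normal ∧ N ≠ ⊥ ∧ IsMulCommutative N ∧ ∀ ω : Ω, MulAction.stabilizer N ω = ⊥ := by
  have hNn : N.Normal := hN.1
  refine ⟨hN.1, hN.2.1, ⟨⟨fun a b => Subtype.ext (hc a a.2 b b.2)⟩⟩, ?_⟩
  intro ω
  have htr : IsPretransitive N Ω := Cfsg.Agent.S3680.trans_of_normal N hN.2.1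
  rw [eq_bot_iff]
  intro x hx
  rw [Subgroup.mem_bot]
  have hfix : (x : G) • ω = ω := MulAction.mem_stabilizer_iff.mp hx
  have := Cfsg.Agent.S3680.semireg_of_commute N N hc ω (x : G) x.2 hfix
  exact Subtype.ext this

end R

end Cfsg.Agent.Helper13.S93
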