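import Mathlib
import Cfsg.Agent.Lib.Helper13.S93Defs

/-!
# S3493, piece S93-RNB: a point stabilizer primitive on each of its orbits has no subgroup strictly
between itself and a two-point stabilizer
-/

set_option autoImplicit false

namespace Cfsg.Agent.Helper13.S93

open MulAction Cfsg.Agent.S0721

universe u v

section R

variable {G : Type u} [Group G] {Ω : Type v} [MulAction G Ω]

/-- [R-NB] -/
theorem noBetween_of_hep (α : Ω)
    (hep : ∀ ω : Ω, MulAction.IsPreprimitive (MulAction.stabilizer G α)
      (MulAction.orbit (MulAction.stabilizer G α) ω)) : NoBetween G α := by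
  intro ω L hL1 hL2
  have hprim := hep ω
  by_cases hsub : Subsingleton (MulAction.orbit (MulAction.stabilizer G α) ω)
  · -- every element of `K` fixes `ω`
    right
    apply le_antisymm hL2
    refine le_trans ?_ hL1
    intro k hk
    refine ⟨hk, ?_⟩
    show k • ω = ω
    have h1 : (⟨(⟨k, hk⟩ : stabilizer G α) • ω, mem_orbit ω _⟩ :
        MulAction.orbit (MulAction.stabilizer G α) ω) = ⟨ω, mem_orbit_self ω⟩ :=
      Subsingleton.elim _ _
    exact congrArg Subtype.val h1
  · rw [not_subsingleton_iff_nontrivial] at hsub
    have hpt : IsPretransitive (MulAction.stabilizer G α)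
        (MulAction.orbit (MulAction.stabilizer G α) ω) := hprim.toIsPretransitive
    have hco := (isCoatom_stabilizer_iff_preprimitive (G := MulAction.stabilizer G α)
      (X := MulAction.orbit (MulAction.stabilizer G α) ω) ⟨ω, mem_orbit_self ω⟩).2 hprim
    have hle : stabilizer (MulAction.stabilizer G α)
        (⟨ω, mem_orbit_self ω⟩ : MulAction.orbit (MulAction.stabilizer G α) ω) ≤
        L.subgroupOf (stabilizer G α) := by
      intro k hk
      rw [Subgroup.mem_subgroupOf]
      apply hL1
      refine ⟨k.2, ?_⟩
      show (k : G) • ω = ω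
      rw [mem_stabilizer_iff] at hk
      exact congrArg Subtype.val hk
    rcases eq_or_lt_of_le hle with h | h
    · left
      apply le_antisymm ?_ hL1
      intro l hl
      refine ⟨hL2 hl, ?_⟩
      have h1 : (⟨l, hL2 hl⟩ : stabilizer G α) ∈ L.subgroupOf (stabilizer G α) :=
        Subgroup.mem_subgroupOf.2 hl
      rw [← h, mem_stabilizer_iff] at h1
      show l • ω = ω
      exact congrArg Subtype.val h1
    · right
      have h1 := hco.2 _ h
      rw [Subgroup.subgroupOf_eq_top] at h1
      exact le_antisymm hL2 h1

end R

end Cfsg.Agent.Helper13.S93
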