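import Mathlib
import Cfsg.Agent.Lib.Helper13.S93Defs

set_option autoImplicit false

namespace Cfsg.Agent.Helper13.S93

open MulAction Cfsg.Agent.S0721

universe u v

section Z

variable {T : Type u} {K : Type v} [Group T] [Group K] {β : K →* Equiv.Perm T}

/-- [Z-BASIC] -/
theorem beta_one (h : ZHyp β) (k : K) : β k 1 = 1 := by
  rcases h.autlike k with hm | hm
  · have := hm 1 1
    rw [mul_one] at this
    exact (mul_eq_left.mp this.symm)
  · have := hm 1 1
    rw [mul_one] at this
    exact (mul_eq_left.mp this.symm)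

/-- [Z-BASIC] -/
theorem beta_inv (h : ZHyp β) (k : K) (x : T) : β k x⁻¹ = (β k x)⁻¹ := by
  rcases h.autlike k with hm | hm
  · have := hm x x⁻¹
    rw [mul_inv_cancel, beta_one h] at this
    exact (eq_inv_of_mul_eq_one_right this.symm)
  · have := hm x⁻¹ x
    rw [inv_mul_cancel, beta_one h] at this
    exact (eq_inv_of_mul_eq_one_right this.symm)

/-- [Z-BASIC] -/
theorem beta_pow (h : ZHyp β) (k : K) (x : T) (n : ℕ) : β k (x ^ n) = (β k x) ^ n := by
  induction n with
  | zero => simp [beta_one h]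
  | succ n ih =>
    rcases h.autlike k with hm | hm
    · rw [pow_succ, hm, ih, pow_succ]
    · rw [pow_succ', hm, ih, pow_succ]

/-- [Z-BASIC] -/
theorem beta_commute_iff (h : ZHyp β) (k : K) (x y : T) :
    β k x * β k y = β k y * β k x ↔ x * y = y * x := by
  rcases h.autlike k with hm | hm
  · rw [← hm, ← hm]
    exact (β k).injective.eq_iff
  · rw [← hm, ← hm]
    constructor
    · intro e; exact ((β k).injective e).symm
    · intro e; rw [e]

/-- [Z-BASIC] -/
theorem beta_eq_one_iff (h : ZHyp β) (k : K) (x : T) : β k x = 1 ↔ x = 1 := by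
  constructor
  · intro e
    rw [← beta_one h k] at e
    exact (β k).injective e
  · intro e; rw [e, beta_one h]

/-- [Z-BASIC] -/
theorem beta_orderOf (h : ZHyp β) (k : K) (x : T) : orderOf (β k x) = orderOf x := by
  apply orderOf_eq_orderOf_iff.mpr
  intro n
  rw [← beta_pow h, beta_eq_one_iff h]

/-- [Z-BASIC] -/
theorem stab_beta (β : K →* Equiv.Perm T) (k k' : K) (x : T) :
    k' ∈ stabB β (β k x) ↔ k⁻¹ * k' * k ∈ stabB β x := by
  rw [mem_stabB, mem_stabB, map_mul, map_mul, Equiv.Perm.mul_apply, Equiv.Perm.mul_apply, map_inv,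
    Equiv.Perm.inv_eq_iff_eq]

/-- [Z-BASIC] -/
theorem inner_mem_stab (β : K →* Equiv.Perm T) (g x : T) (k : K)
    (hk : ∀ y, β k y = g * y * g⁻¹) : k ∈ stabB β x ↔ g * x = x * g := by
  rw [mem_stabB, hk, mul_inv_eq_iff_eq_mul]

end Z

end Cfsg.Agent.Helper13.S93
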