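import Mathlib
import Cfsg.Agent.Lib.Helper13.S93Defs

set_option autoImplicit false

namespace Cfsg.Agent.Helper13.S93

open MulAction Cfsg.Agent.S0721

universe u v

section Z

variable {T : Type u} {K : Type v} [Group T] [Group K] {β : K →* Equiv.Perm T}

/-- [Z-CENTER] `Z(T) = 1`. -/
theorem center_trivial (h : ZHyp β) (z : T) (hz : ∀ t : T, z * t = t * z) : z = 1 := by
  haveI := h.simple
  have hzc : z ∈ Subgroup.center T := by
    rw [Subgroup.mem_center_iff]
    intro t; exact (hz t).symm
  rcases Subgroup.Normal.eq_bot_or_eq_top (H := Subgroup.center T) inferInstance with hb | ht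
  · rw [hb, Subgroup.mem_bot] at hzc; exact hzc
  · exfalso
    obtain ⟨a, b, hab⟩ := h.noncomm
    apply hab
    have ha : a ∈ Subgroup.center T := by rw [ht]; trivial
    rw [Subgroup.mem_center_iff] at ha
    exact (ha b).symm

/-- [Z-NETOP] -/
theorem stab_ne_top (h : ZHyp β) (x : T) (hx : x ≠ 1) : stabB β x ≠ ⊤ := by
  intro htop
  apply hx
  apply center_trivial h
  intro t
  obtain ⟨k, hk⟩ := h.inner t
  have hk' : k ∈ stabB β x := by rw [htop]; trivial
  rw [mem_stabB, hk, mul_inv_eq_iff_eq_mul] at hk'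
  exact hk'.symm

end Z

end Cfsg.Agent.Helper13.S93
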