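import Mathlib
import Cfsg.Prelude.Def_PLocal
import Cfsg.Agent.Lib.Helper13.S93Defs
import Cfsg.Agent.Lib.Helper4.ZJAbelian

/-! S3493 farm-out (designer helper13), piece S93-ZCHAR. Proved by helper18. -/

set_option autoImplicit false

namespace Cfsg.Agent.Helper13.S93

open MulAction Cfsg.Agent.S0721

universe u v

section Z

variable {T : Type u} {K : Type v} [Group T] [Group K] {β : K →* Equiv.Perm T}

/-- an automorphism preserving `P` preserves `Z(J(P))` (membership form) -/
theorem s93_zchar_aut [Finite T] (φ : T ≃* T) (P : Subgroup T)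
    (hP : ∀ y, φ y ∈ P ↔ y ∈ P) (y : T) :
    φ y ∈ Cfsg.centerThompsonAOf P ↔ y ∈ Cfsg.centerThompsonAOf P := by
  have hmap : P.map φ.toMonoidHom = P := by
    ext x
    constructor
    · rintro ⟨z, hz, rfl⟩
      exact (hP z).mpr hz
    · intro hx
      refine ⟨φ.symm x, ?_, ?_⟩
      · show φ.symm x ∈ P
        rw [← hP]
        simpa using hx
      · simp
  have hW := Cfsg.Agent.Helper4.ZJ.centerThompsonAOf_map φ P
  rw [hmap] at hW
  constructor
  · intro hy
    rw [hW] at hy
    obtain ⟨w, hw, hwy⟩ := hy
    have : w = y := φ.injective hwy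
    rw [← this]; exact hw
  · intro hy
    rw [hW]
    exact ⟨y, hy, rfl⟩

/-- [Z-CHAR] -/
theorem char_invariance [Finite T] (h : ZHyp β) (P : Subgroup T) :
    sstabB β P ≤ sstabB β (Cfsg.centerThompsonAOf P) := by
  intro k hk
  rw [mem_sstabB] at hk ⊢
  rcases h.autlike k with hm | ha
  · -- multiplicative
    let φ : T ≃* T := { (β k) with map_mul' := hm }
    have hφ : ∀ y, φ y = β k y := fun _ => rfl
    intro y
    have := s93_zchar_aut φ P (fun y => by rw [hφ]; exact hk y) y
    rwa [hφ] at this
  · -- anti-multiplicative: compose with inversion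
    let ψ : T ≃* T :=
      { toFun := fun y => (β k y)⁻¹
        invFun := fun y => (β k).symm y⁻¹
        left_inv := by intro y; simp
        right_inv := by intro y; simp
        map_mul' := by
          intro x y
          show (β k (x * y))⁻¹ = (β k x)⁻¹ * (β k y)⁻¹
          rw [ha, mul_inv_rev] }
    have hψ : ∀ y, ψ y = (β k y)⁻¹ := fun _ => rfl
    intro y
    have := s93_zchar_aut ψ P (fun y => by rw [hψ, Subgroup.inv_mem_iff]; exact hk y) y
    rwa [hψ, Subgroup.inv_mem_iff] at this

end Z

end Cfsg.Agent.Helper13.S93
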