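import Mathlib
import Cfsg.Agent.Lib.Helper13.S93Defs
import Cfsg.Agent.Lib.S93.S93ZBASIC
import Cfsg.Agent.Lib.S93.S93ZCENTER

set_option autoImplicit false

namespace Cfsg.Agent.Helper13.S93

open MulAction Cfsg.Agent.S0721

universe u v

section Z

variable {T : Type u} {K : Type v} [Group T] [Group K] {β : K →* Equiv.Perm T}

/-- [Z-FSTAB] -/
theorem fset_stab_eq (h : ZHyp β) (x : T) (hx : x ≠ 1) (y : T) (hy : y ∈ Fset β x)
    (hy1 : y ≠ 1) : stabB β y = stabB β x := by
  rw [mem_Fset] at hy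
  rcases h.maxi x hx _ hy with e | e
  · exact e
  · exact (stab_ne_top h y hy1 e).elim

/-- [Z-FCENT] `C_T(x) ⊆ C_T(y)` for `y ∈ F_x`. -/
theorem fset_centralizer (h : ZHyp β) (x : T) (y : T) (hy : y ∈ Fset β x) (g : T)
    (hg : g * x = x * g) : g * y = y * g := by
  rw [mem_Fset] at hy
  obtain ⟨k, hk⟩ := h.inner g
  have h1 : k ∈ stabB β x := (inner_mem_stab β g x k hk).mpr hg
  exact (inner_mem_stab β g y k hk).mp (hy h1)

/-- [Z-FCOMM] -/
theorem fset_commute (h : ZHyp β) (x : T) (hx : x ≠ 1) (y y' : T) (hy : y ∈ Fset β x)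
    (hy' : y' ∈ Fset β x) : y * y' = y' * y := by
  by_cases hy1 : y = 1
  · rw [hy1]; simp
  by_cases hy'1 : y' = 1
  · rw [hy'1]; simp
  have e1 := fset_stab_eq h x hx y hy hy1
  have e2 := fset_stab_eq h x hx y' hy' hy'1
  obtain ⟨k, hk⟩ := h.inner y
  have h1 : k ∈ stabB β y := (inner_mem_stab β y y k hk).mpr rfl
  rw [e1, ← e2] at h1
  exact (inner_mem_stab β y y' k hk).mp h1

/-- [Z-FSUB] -/
theorem exists_fsub (h : ZHyp β) (x : T) (hx : x ≠ 1) :
    ∃ F : Subgroup T, (F : Set T) = Fset β x := by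
  refine ⟨{ carrier := Fset β x
            mul_mem' := ?_
            one_mem' := ?_
            inv_mem' := ?_ }, rfl⟩
  · intro a b ha hb
    have hab := fset_commute h x hx a b ha hb
    rw [mem_Fset] at ha hb ⊢
    intro k hk
    have ka := ha hk
    have kb := hb hk
    rw [mem_stabB] at ka kb ⊢
    rcases h.autlike k with hm | hm
    · rw [hm, ka, kb]
    · rw [hm, ka, kb, hab]
  · exact one_mem_Fset_of β x (beta_one h)
  · intro a ha
    rw [mem_Fset] at ha ⊢
    intro k hk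
    have ka := ha hk
    rw [mem_stabB] at ka ⊢
    rw [beta_inv h, ka]

end Z

end Cfsg.Agent.Helper13.S93
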