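import Mathlib
import Cfsg.Agent.Lib.Helper13.S93Defs
import Cfsg.Agent.Lib.S93.S93ZF
import Cfsg.Agent.S0035

/-!
# S3493 piece S93-ZFROB, core: `frob_case` with the statement of `fset_TI` (piece ZTI) as a
hypothesis.
-/

set_option autoImplicit false
set_option linter.unusedVariables false

namespace Cfsg.Agent.Helper13.S93

open MulAction Cfsg.Agent.S0721
open scoped Pointwise

universe u v

section Z

variable {T : Type u} {K : Type v} [Group T] [Group K] {β : K →* Equiv.Perm T}

theorem s93_zfrob_core [Finite T] (h : ZHyp β) (x : T) (hx : x ≠ 1)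
    (hTI : ∀ y : T, y ∈ Fset β x → y ≠ 1 → ∀ g : T, g * y * g⁻¹ ∈ Fset β x → g * x = x * g)
    (hF : ∀ g : T, g * x = x * g → g ∈ Fset β x) : False := by
  obtain ⟨F, hFset⟩ := exists_fsub h x hx
  have hmem : ∀ y : T, y ∈ F ↔ y ∈ Fset β x := by
    intro y
    rw [← hFset]
    rfl
  have hxF : x ∈ F := (hmem x).2 (self_mem_Fset β x)
  have hFbot : F ≠ ⊥ := by
    intro hb
    rw [hb, Subgroup.mem_bot] at hxF
    exact hx hxF
  have hFtop : F ≠ ⊤ := by
    intro ht
    obtain ⟨a, b, hab⟩ := h.noncomm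
    apply hab
    apply fset_commute h x hx a b
    · rw [← hmem, ht]; exact Subgroup.mem_top a
    · rw [← hmem, ht]; exact Subgroup.mem_top b
  have hTIF : ∀ g : T, g ∉ F → F ⊓ (MulAut.conj g • F) = ⊥ := by
    intro g hg
    rw [eq_bot_iff]
    rintro y ⟨hyF, hyg⟩
    rw [Subgroup.mem_bot]
    by_contra hy1
    have hyg' : y ∈ MulAut.conj g • F := hyg
    rw [Subgroup.mem_pointwise_smul_iff_inv_smul_mem, MulAut.smul_def, ← map_inv,
      MulAut.conj_apply, inv_inv] at hyg'
    -- `f = g⁻¹ y g ∈ F`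
    have hf1 : g⁻¹ * y * g ≠ 1 := by
      intro h1
      apply hy1
      have : y = g * (g⁻¹ * y * g) * g⁻¹ := by group
      rw [this, h1]
      group
    have hconj : g * (g⁻¹ * y * g) * g⁻¹ ∈ Fset β x := by
      have : g * (g⁻¹ * y * g) * g⁻¹ = y := by group
      rw [this]
      exact (hmem y).1 hyF
    have hgx := hTI _ ((hmem _).1 hyg') hf1 g hconj
    exact hg ((hmem g).2 (hF g hgx))
  obtain ⟨N, _, hNn, hcompl⟩ := Cfsg.Agent.S0035.result F ⟨hFbot, hFtop, hTIF⟩
  have := h.simple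
  rcases hNn.eq_bot_or_eq_top with hN | hN
  · rw [hN, Subgroup.isComplement'_bot_left] at hcompl
    exact hFtop hcompl
  · rw [hN, Subgroup.isComplement'_top_left] at hcompl
    exact hFbot hcompl

end Z

end Cfsg.Agent.Helper13.S93
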