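import Mathlib
import Cfsg.Agent.Lib.Helper13.S93Defs
import Cfsg.Agent.Lib.S93.S93ZBASIC

/-!
# S3493 farm-out (helper13), piece S93-ZNORMSTAB, core: `N_K(S_x) = S_x`, with the statement of
`fset_commute` (piece S93-ZF) taken as a hypothesis.
-/

set_option autoImplicit false

namespace Cfsg.Agent.Helper13.S93

open MulAction Cfsg.Agent.S0721

universe u v

section Z

variable {T : Type u} {K : Type v} [Group T] [Group K] {β : K →* Equiv.Perm T}

/-- a group generated by pairwise commuting elements is commutative (elementwise form). -/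
theorem s93_znormstab_closure_comm {S : Set T} (hS : ∀ a ∈ S, ∀ b ∈ S, a * b = b * a) :
    ∀ a ∈ Subgroup.closure S, ∀ b ∈ Subgroup.closure S, a * b = b * a := by
  have h1 : Subgroup.closure S ≤ Subgroup.centralizer (Subgroup.closure S : Set T) := by
    rw [Subgroup.closure_le]
    intro a ha
    rw [SetLike.mem_coe, Subgroup.mem_centralizer_iff]
    intro b hb
    have h2 : Subgroup.closure S ≤ Subgroup.centralizer ({a} : Set T) := by
      rw [Subgroup.closure_le]
      intro c hc
      rw [SetLike.mem_coe, Subgroup.mem_centralizer_iff]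
      intro d hd
      rw [Set.mem_singleton_iff] at hd
      subst hd
      exact hS d ha c hc
    exact (Subgroup.mem_centralizer_iff.1 (h2 hb) a (Set.mem_singleton a)).symm
  intro a ha b hb
  exact Subgroup.mem_centralizer_iff.1 (h1 hb) a ha

/-- core of [Z-NORMSTAB]: `hcomm` is the statement of `fset_commute` at `x`. -/
theorem s93_znormstab_core (h : ZHyp β) (x : T) (hx : x ≠ 1)
    (hcomm : ∀ y y' : T, y ∈ Fset β x → y' ∈ Fset β x → y * y' = y' * y) (k : K)
    (hk : ∀ k', k' ∈ stabB β x ↔ k⁻¹ * k' * k ∈ stabB β x) : k ∈ stabB β x := by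
  by_contra hkS
  -- the normalizer of `S_x` is everything
  have hkN : k⁻¹ ∈ Subgroup.normalizer ((stabB β x : Subgroup K) : Set K) := by
    rw [Subgroup.mem_normalizer_iff]
    intro k'
    rw [hk k', inv_inv]
  have hNtop : Subgroup.normalizer ((stabB β x : Subgroup K) : Set K) = ⊤ := by
    rcases h.maxi x hx _ Subgroup.le_normalizer with h1 | h1
    · exfalso
      apply hkS
      have : k⁻¹ ∈ stabB β x := by rw [← h1]; exact hkN
      simpa using (stabB β x).inv_mem this
    · exact h1
  have hnorm : ∀ k' k'' : K, k'' ∈ stabB β x ↔ k'⁻¹ * k'' * k' ∈ stabB β x := by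
    intro k' k''
    have h1 : k'⁻¹ ∈ Subgroup.normalizer ((stabB β x : Subgroup K) : Set K) := by
      rw [hNtop]; exact Subgroup.mem_top _
    have h2 := (Subgroup.mem_normalizer_iff.1 h1) k''
    rw [inv_inv] at h2
    exact h2
  -- all images of `x` lie in `Fset`
  have hF : ∀ k' : K, β k' x ∈ Fset β x := by
    intro k'
    rw [mem_Fset]
    intro k'' hk''
    rw [stab_beta]
    exact (hnorm k' k'').1 hk''
  have hconjF : ∀ g : T, g * x * g⁻¹ ∈ Fset β x := by
    intro g
    obtain ⟨kg, hkg⟩ := h.inner g
    rw [← hkg x]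
    exact hF kg
  -- the normal closure of `x` is commutative and equal to `T`
  have hcl : ∀ a ∈ Subgroup.normalClosure ({x} : Set T), ∀ b ∈ Subgroup.normalClosure ({x} : Set T),
      a * b = b * a := by
    unfold Subgroup.normalClosure
    apply s93_znormstab_closure_comm
    intro a ha b hb
    rw [Group.mem_conjugatesOfSet_iff] at ha hb
    obtain ⟨a', ha', hca⟩ := ha
    obtain ⟨b', hb', hcb⟩ := hb
    rw [Set.mem_singleton_iff] at ha' hb'
    subst ha'
    subst hb'
    rw [isConj_iff] at hca hcb
    obtain ⟨c, rfl⟩ := hca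
    obtain ⟨d, rfl⟩ := hcb
    exact hcomm _ _ (hconjF c) (hconjF d)
  have hne : Subgroup.normalClosure ({x} : Set T) ≠ ⊥ := by
    intro hb
    apply hx
    have : x ∈ Subgroup.normalClosure ({x} : Set T) :=
      Subgroup.subset_normalClosure (Set.mem_singleton x)
    rw [hb, Subgroup.mem_bot] at this
    exact this
  have hsimple := h.simple
  have htop : Subgroup.normalClosure ({x} : Set T) = ⊤ :=
    (Subgroup.Normal.eq_bot_or_eq_top Subgroup.normalClosure_normal).resolve_left hne
  obtain ⟨a, b, hab⟩ := h.noncomm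
  apply hab
  apply hcl
  · rw [htop]; exact Subgroup.mem_top _
  · rw [htop]; exact Subgroup.mem_top _

end Z

end Cfsg.Agent.Helper13.S93
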