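import Mathlib
import Cfsg.Agent.Lib.Helper13.S93Defs
import Cfsg.Agent.Lib.S93.S93ZF
import Cfsg.Agent.Lib.S93.S93ZNORMSTABCore

/-!
# S3493 farm-out (helper13), piece S93-ZNORMSTAB: `N_K(S_x) = S_x`.
-/

set_option autoImplicit false

namespace Cfsg.Agent.Helper13.S93

open MulAction Cfsg.Agent.S0721

universe u v

section Z

variable {T : Type u} {K : Type v} [Group T] [Group K] {β : K →* Equiv.Perm T}

/-- [Z-NORMSTAB] `N_K(S_x) = S_x`. -/
theorem normalizer_stab (h : ZHyp β) (x : T) (hx : x ≠ 1) (k : K)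
    (hk : ∀ k', k' ∈ stabB β x ↔ k⁻¹ * k' * k ∈ stabB β x) : k ∈ stabB β x :=
  s93_znormstab_core h x hx (fun y y' hy hy' => fset_commute h x hx y y' hy hy') k hk

end Z

end Cfsg.Agent.Helper13.S93
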