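import Mathlib
import Cfsg.Agent.Lib.Helper13.S93Defs
import Cfsg.Agent.Lib.S93.S93ZBASIC

/-!
# S3493 piece S93-ZTI, core: `fset_TI` with the statements of `fset_stab_eq` (piece ZF) and
`normalizer_stab` (piece ZNORMSTAB) as hypotheses.
-/

set_option autoImplicit false
set_option linter.unusedVariables false

namespace Cfsg.Agent.Helper13.S93

open MulAction Cfsg.Agent.S0721

universe u v

section Z

variable {T : Type u} {K : Type v} [Group T] [Group K] {β : K →* Equiv.Perm T}

theorem s93_zti_core (h : ZHyp β) (x : T) (hx : x ≠ 1)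
    (hfse : ∀ y : T, y ∈ Fset β x → y ≠ 1 → stabB β y = stabB β x)
    (hns : ∀ k : K, (∀ k', k' ∈ stabB β x ↔ k⁻¹ * k' * k ∈ stabB β x) → k ∈ stabB β x)
    (y : T) (hy : y ∈ Fset β x) (hy1 : y ≠ 1)
    (g : T) (hg : g * y * g⁻¹ ∈ Fset β x) : g * x = x * g := by
  obtain ⟨k, hk⟩ := h.inner g
  have h1 : g * y * g⁻¹ ≠ 1 := by
    intro h2
    apply hy1
    have h3 : y = g⁻¹ * (g * y * g⁻¹) * g := by group
    rw [h3, h2]
    group
  have e1 : stabB β (β k y) = stabB β x := by
    rw [hk y]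
    exact hfse _ hg h1
  have e2 : stabB β y = stabB β x := hfse y hy hy1
  have hk' : k ∈ stabB β x := by
    apply hns k
    intro k'
    rw [← e1, stab_beta β k k' y, e2, e1]
  exact (inner_mem_stab β g x k hk).1 hk'

end Z

end Cfsg.Agent.Helper13.S93
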