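import Mathlib
import Cfsg.Agent.Lib.Helper13.S93Defs
import Cfsg.Agent.Lib.S93.S93ZF
import Cfsg.Agent.Lib.S93.S93ZNORMSTAB
import Cfsg.Agent.Lib.S93.S93ZTICore
import Cfsg.Agent.Lib.S93.S93ZFROBCore

/-!
# S3493 piece S93-ZFROB: `frob_case`
-/

set_option autoImplicit false
set_option linter.unusedVariables false

namespace Cfsg.Agent.Helper13.S93

open MulAction Cfsg.Agent.S0721

universe u v

section Z

variable {T : Type u} {K : Type v} [Group T] [Group K] {β : K →* Equiv.Perm T}

/-- [Z-FROB] -/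
theorem frob_case [Finite T] (h : ZHyp β) (x : T) (hx : x ≠ 1)
    (hF : ∀ g : T, g * x = x * g → g ∈ Fset β x) : False :=
  s93_zfrob_core h x hx
    (fun y hy hy1 g hg =>
      s93_zti_core h x hx (fun y hy hy1 => fset_stab_eq h x hx y hy hy1)
        (fun k hk => normalizer_stab h x hx k hk) y hy hy1 g hg)
    hF

end Z

end Cfsg.Agent.Helper13.S93
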