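import Mathlib
import Cfsg.Agent.Lib.Helper13.S93Defs
import Cfsg.Agent.Lib.S93.S93ZBASIC
import Cfsg.Agent.Lib.S93.S93ZCENTER

set_option autoImplicit false

namespace Cfsg.Agent.Helper13.S93

open MulAction Cfsg.Agent.S0721

universe u v

section Z

variable {T : Type u} {K : Type v} [Group T] [Group K] {β : K →* Equiv.Perm T}

/-- [Z-POW] -/
theorem stab_pow (h : ZHyp β) (x : T) (j : ℕ) (hxj : x ^ j ≠ 1) :
    stabB β (x ^ j) = stabB β x := by
  have hx : x ≠ 1 := by
    rintro rfl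
    simp at hxj
  have hle : stabB β x ≤ stabB β (x ^ j) := by
    intro k hk
    rw [mem_stabB] at hk ⊢
    rw [beta_pow h, hk]
  rcases h.maxi x hx _ hle with e | e
  · exact e
  · exact (stab_ne_top h _ hxj e).elim

theorem s93_zpow_exists_pow [Finite T] (x y : T) (hx : x ≠ 1)
    (hc : x * y = y * x) (hco : (orderOf x).Coprime (orderOf y)) :
    ∃ i : ℕ, (x * y) ^ i = x := by
  have hox : 1 < orderOf x := by
    have h0 : 0 < orderOf x := orderOf_pos x
    have h1 : orderOf x ≠ 1 := by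
      rw [Ne, orderOf_eq_one_iff]; exact hx
    omega
  obtain ⟨m, -, hm⟩ := Nat.exists_mul_mod_eq_one_of_coprime hco.symm hox
  refine ⟨orderOf y * m, ?_⟩
  have hcomm : Commute x y := hc
  rw [hcomm.mul_pow, ← pow_mod_orderOf x, hm, pow_one, pow_mul, pow_orderOf_eq_one, one_pow, mul_one]

/-- [Z-COPRIME] -/
theorem stab_coprime [Finite T] (h : ZHyp β) (x y : T) (hx : x ≠ 1) (hy : y ≠ 1)
    (hc : x * y = y * x) (hco : (orderOf x).Coprime (orderOf y)) :
    stabB β x = stabB β y := by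
  obtain ⟨i, hi⟩ := s93_zpow_exists_pow x y hx hc hco
  obtain ⟨j, hj⟩ := s93_zpow_exists_pow y x hy hc.symm hco.symm
  rw [← hc] at hj
  have h1 := stab_pow h (x * y) i (by rw [hi]; exact hx)
  have h2 := stab_pow h (x * y) j (by rw [hj]; exact hy)
  rw [hi] at h1
  rw [hj] at h2
  rw [h1, h2]

end Z

end Cfsg.Agent.Helper13.S93
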