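import Mathlib
import Cfsg.Agent.Lib.Helper13.S93Defs
import Cfsg.Agent.Lib.S93.S93ZPOW

/-!
# S3493 piece S93-ZPAIR: `pair_noncoprime`
-/

set_option autoImplicit false

namespace Cfsg.Agent.Helper13.S93

open MulAction Cfsg.Agent.S0721

universe u v

section Z

variable {T : Type u} {K : Type v} [Group T] [Group K] {β : K →* Equiv.Perm T}

/-- [Z-PAIR] -/
theorem pair_noncoprime [Finite T] (h : ZHyp β) (y m : T) (hy : y ≠ 1) (hm : m ≠ 1)
    (hc : y * m = m * y) (hne : stabB β y ≠ stabB β m) (i j : ℕ) (hi : y ^ i ≠ 1) (hj : m ^ j ≠ 1) :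
    ¬ (orderOf (y ^ i)).Coprime (orderOf (m ^ j)) := by
  intro hco
  apply hne
  have hcomm : y ^ i * m ^ j = m ^ j * y ^ i := ((show Commute y m from hc).pow_pow i j).eq
  have h1 := stab_coprime h (y ^ i) (m ^ j) hi hj hcomm hco
  rw [stab_pow h y i hi, stab_pow h m j hj] at h1
  exact h1

end Z

end Cfsg.Agent.Helper13.S93
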