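import Mathlib
import Cfsg.Agent.Lib.Helper13.S93Defs

/-! S3493 farm-out (designer helper13), piece S93-ZNT. Proved by helper18. -/

set_option autoImplicit false

namespace Cfsg.Agent.Helper13.S93

open MulAction Cfsg.Agent.S0721

universe u v

theorem s93_znt_pow_prime {M : Type u} [Group M] [Finite M] (x : M) (p : ℕ) (hp : p.Prime)
    (hd : p ∣ orderOf x) : x ^ (orderOf x / p) ≠ 1 ∧ orderOf (x ^ (orderOf x / p)) = p := by
  have hpos : 0 < orderOf x := orderOf_pos x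
  obtain ⟨c, hc⟩ := hd
  have hcpos : 0 < c := by
    rcases Nat.eq_zero_or_pos c with h | h
    · rw [h, mul_zero] at hc; omega
    · exact h
  have hdiv : orderOf x / p = c := by
    rw [hc]; exact Nat.mul_div_cancel_left c hp.pos
  have hord : orderOf (x ^ (orderOf x / p)) = p := by
    rw [hdiv, orderOf_pow_of_dvd hcpos.ne' ⟨p, by rw [hc]; ring⟩, hc]
    exact Nat.mul_div_cancel p hcpos
  refine ⟨?_, hord⟩
  intro h1
  rw [h1, orderOf_one] at hord
  exact hp.one_lt.ne hord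

/-- [Z-NT] pure group theory / number theory -/
theorem prime_pow_of_noncoprime {M : Type u} [Group M] [Finite M] (x m : M) (hx : x ≠ 1) (hm : m ≠ 1)
    (H : ∀ i j : ℕ, x ^ i ≠ 1 → m ^ j ≠ 1 → ¬ (orderOf (x ^ i)).Coprime (orderOf (m ^ j))) :
    ∃ p : ℕ, p.Prime ∧ (∃ a, orderOf x = p ^ a) ∧ (∃ b, orderOf m = p ^ b) := by
  have key : ∀ p r : ℕ, p.Prime → r.Prime → p ∣ orderOf x → r ∣ orderOf m → p = r := by
    intro p r hp hr hpx hrm
    obtain ⟨h1, h2⟩ := s93_znt_pow_prime x p hp hpx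
    obtain ⟨h3, h4⟩ := s93_znt_pow_prime m r hr hrm
    have := H _ _ h1 h3
    rw [h2, h4, Nat.coprime_primes hp hr] at this
    exact not_not.mp this
  have hox : orderOf x ≠ 1 := fun h => hx (orderOf_eq_one_iff.mp h)
  have hom : orderOf m ≠ 1 := fun h => hm (orderOf_eq_one_iff.mp h)
  obtain ⟨r₀, hr₀, hr₀m⟩ := Nat.exists_prime_and_dvd hom
  obtain ⟨p₀, hp₀, hp₀x⟩ := Nat.exists_prime_and_dvd hox
  have h00 : p₀ = r₀ := key p₀ r₀ hp₀ hr₀ hp₀x hr₀m
  refine ⟨r₀, hr₀, ⟨_, Nat.eq_prime_pow_of_unique_prime_dvd (orderOf_pos x).ne' ?_⟩,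
    ⟨_, Nat.eq_prime_pow_of_unique_prime_dvd (orderOf_pos m).ne' ?_⟩⟩
  · intro d hd hdx
    exact key d r₀ hd hr₀ hdx hr₀m
  · intro d hd hdm
    rw [← h00]
    exact (key p₀ d hp₀ hd hp₀x hdm).symm

end Cfsg.Agent.Helper13.S93
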