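import Mathlib
import Cfsg.Agent.Lib.Helper13.S93Defs
import Cfsg.Agent.Lib.S93.S93ZBASIC
import Cfsg.Agent.Lib.S93.S93ZF
import Cfsg.Agent.Lib.S93.S93ZNT

/-!
# S3493 piece S93-ZPRIME, core: `prime_case` with the statement of `pair_noncoprime`
(piece ZPAIR) as a hypothesis.
-/

set_option autoImplicit false
set_option linter.unusedVariables false

namespace Cfsg.Agent.Helper13.S93

open MulAction Cfsg.Agent.S0721

universe u v

section Z

variable {T : Type u} {K : Type v} [Group T] [Group K] {β : K →* Equiv.Perm T}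

/-- two prime powers with positive exponent that agree have the same prime -/
theorem s93_zprime_prime_eq {p p' a a' : ℕ} (hp : p.Prime) (hp' : p'.Prime) (ha : a ≠ 0)
    (he : p ^ a = p' ^ a') : p' = p := by
  have h1 : p ∣ p' ^ a' := by
    rw [← he]
    exact dvd_pow_self p ha
  have h2 : p ∣ p' := hp.dvd_of_dvd_pow h1
  exact ((Nat.prime_dvd_prime_iff_eq hp hp').1 h2).symm

theorem s93_zprime_exp_ne_zero {M : Type u} [Group M] {y : M} (hy : y ≠ 1) {p a : ℕ}
    (he : orderOf y = p ^ a) : a ≠ 0 := by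
  rintro rfl
  rw [pow_zero, orderOf_eq_one_iff] at he
  exact hy he

theorem s93_zprime_core [Finite T] (h : ZHyp β)
    (hpair : ∀ y m : T, y ≠ 1 → m ≠ 1 → y * m = m * y → stabB β y ≠ stabB β m →
      ∀ i j : ℕ, y ^ i ≠ 1 → m ^ j ≠ 1 → ¬ (orderOf (y ^ i)).Coprime (orderOf (m ^ j)))
    (x : T) (hx : x ≠ 1) (m : T) (hm : m * x = x * m)
    (hmF : m ∉ Fset β x) :
    ∃ p : ℕ, p.Prime ∧ ∀ g : T, g * x = x * g → ∃ n, orderOf g = p ^ n := by
  have hm1 : m ≠ 1 := by
    rintro rfl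
    exact hmF (one_mem_Fset_of β x (beta_one h))
  have hne : ∀ g : T, g ∉ Fset β x → stabB β x ≠ stabB β g := by
    intro g hgF he
    apply hgF
    rw [mem_Fset, he]
  obtain ⟨p, hp, ⟨a, ha⟩, ⟨b, hb⟩⟩ := prime_pow_of_noncoprime x m hx hm1
    (hpair x m hx hm1 hm.symm (hne m hmF))
  have ha0 : a ≠ 0 := s93_zprime_exp_ne_zero hx ha
  have hb0 : b ≠ 0 := s93_zprime_exp_ne_zero hm1 hb
  refine ⟨p, hp, ?_⟩
  intro g hg
  by_cases hg1 : g = 1
  · refine ⟨0, ?_⟩
    rw [hg1, orderOf_one, pow_zero]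
  by_cases hgF : g ∈ Fset β x
  · -- `g ∈ F_x`
    have e1 : stabB β g = stabB β x := fset_stab_eq h x hx g hgF hg1
    have hgm : m * g = g * m := fset_centralizer h x g hgF m hm
    have hne' : stabB β g ≠ stabB β m := by
      rw [e1]
      exact hne m hmF
    obtain ⟨p', hp', ⟨a', ha'⟩, ⟨b', hb'⟩⟩ := prime_pow_of_noncoprime g m hg1 hm1
      (hpair g m hg1 hm1 hgm.symm hne')
    have hpp : p' = p := s93_zprime_prime_eq hp hp' hb0 (hb.symm.trans hb')
    exact ⟨a', by rw [ha', hpp]⟩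
  · -- `g ∉ F_x`
    obtain ⟨p', hp', ⟨a', ha'⟩, ⟨b', hb'⟩⟩ := prime_pow_of_noncoprime x g hx hg1
      (hpair x g hx hg1 hg.symm (hne g hgF))
    have hpp : p' = p := s93_zprime_prime_eq hp hp' ha0 (ha.symm.trans ha')
    exact ⟨b', by rw [hb', hpp]⟩

end Z

end Cfsg.Agent.Helper13.S93
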