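import Mathlib
import Cfsg.Agent.Lib.Helper13.S93Defs
import Cfsg.Agent.Lib.S93.S93ZPAIR
import Cfsg.Agent.Lib.S93.S93ZPRIMECore

/-!
# S3493 piece S93-ZPRIME: `prime_case`.
-/

set_option autoImplicit false

namespace Cfsg.Agent.Helper13.S93

open MulAction Cfsg.Agent.S0721

universe u v

section Z

variable {T : Type u} {K : Type v} [Group T] [Group K] {β : K →* Equiv.Perm T}

/-- [Z-PRIME] -/
theorem prime_case [Finite T] (h : ZHyp β) (x : T) (hx : x ≠ 1) (m : T) (hm : m * x = x * m)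
    (hmF : m ∉ Fset β x) :
    ∃ p : ℕ, p.Prime ∧ ∀ g : T, g * x = x * g → ∃ n, orderOf g = p ^ n :=
  s93_zprime_core h (fun y m hy hm hc hne i j hi hj => pair_noncoprime h y m hy hm hc hne i j hi hj)
    x hx m hm hmF

end Z

end Cfsg.Agent.Helper13.S93
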