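import Mathlib
import Cfsg.Agent.Lib.Helper13.S93Defs
import Cfsg.Agent.Lib.S93.S93ZFROB
import Cfsg.Agent.Lib.S93.S93ZPRIME

set_option autoImplicit false

namespace Cfsg.Agent.Helper13.S93

open MulAction Cfsg.Agent.S0721

universe u v

section Z

variable {T : Type u} {K : Type v} [Group T] [Group K] {β : K →* Equiv.Perm T}

/-- [Z-CPG] every centralizer is a group of prime power order -/
theorem centralizer_pgroup [Finite T] (h : ZHyp β) (x : T) (hx : x ≠ 1) :
    ∃ p : ℕ, p.Prime ∧ ∀ g : T, g * x = x * g → ∃ n, orderOf g = p ^ n := by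
  by_cases hm : ∃ m : T, m * x = x * m ∧ m ∉ Fset β x
  · obtain ⟨m, hm1, hm2⟩ := hm
    exact prime_case h x hx m hm1 hm2
  · push_neg at hm
    exact (frob_case h x hx hm).elim

end Z

end Cfsg.Agent.Helper13.S93
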