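import Mathlib
import Cfsg.Agent.Lib.Helper13.S93Defs
import Cfsg.Agent.Lib.S93.S93ZCENTER

/-! S3493 farm-out (designer helper13), piece S93-ZNOTP. Proved by helper18. -/

set_option autoImplicit false

namespace Cfsg.Agent.Helper13.S93

open MulAction Cfsg.Agent.S0721

universe u v

section Z

variable {T : Type u} {K : Type v} [Group T] [Group K] {β : K →* Equiv.Perm T}

/-- [Z-NOTP] -/
theorem not_pgroup [Finite T] (h : ZHyp β) (p : ℕ) [Fact p.Prime] : ¬ IsPGroup p T := by
  intro hp
  obtain ⟨a, b, hab⟩ := h.noncomm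
  have hnt : Nontrivial T := by
    refine ⟨⟨a, b, ?_⟩⟩
    intro hab'
    apply hab
    rw [hab']
  have hc := hp.center_nontrivial
  obtain ⟨⟨z, hz⟩, hz1⟩ := exists_ne (1 : Subgroup.center T)
  apply hz1
  apply Subtype.ext
  show z = 1
  apply center_trivial h z
  intro t
  rw [Subgroup.mem_center_iff] at hz
  exact (hz t).symm

/-- [Z-ODD] -/
theorem exists_odd_prime [Finite T] (h : ZHyp β) :
    ∃ p : ℕ, p.Prime ∧ p ≠ 2 ∧ p ∣ Nat.card T := by
  by_contra hcon
  push Not at hcon
  have hcard : Nat.card T = 2 ^ (Nat.card T).primeFactorsList.length := by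
    apply Nat.eq_prime_pow_of_unique_prime_dvd Nat.card_pos.ne'
    intro d hd hdT
    by_contra hd2
    exact hcon d hd hd2 hdT
  have : Fact (Nat.Prime 2) := ⟨Nat.prime_two⟩
  exact not_pgroup h 2 (IsPGroup.of_card hcard)

end Z

end Cfsg.Agent.Helper13.S93
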