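import Mathlib
import Cfsg.Prelude.Def_Transfer
import Cfsg.Agent.Lib.Helper13.S93Defs
import Cfsg.Agent.Lib.S93.S93ZNOTP

/-! S3493 farm-out (designer helper13), piece S93-ZNPC. Proved by helper18. -/

set_option autoImplicit false

namespace Cfsg.Agent.Helper13.S93

open MulAction Cfsg.Agent.S0721

universe u v

section Z

variable {T : Type u} {K : Type v} [Group T] [Group K] {β : K →* Equiv.Perm T}

/-- [Z-NPCP] -/
theorem npc_of_pgroup {p : ℕ} [Fact p.Prime] (H : Type u) [Group H] [Finite H]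
    (hH : IsPGroup p H) : Cfsg.HasNormalPComplement p H := by
  have hT : IsPGroup p (⊤ : Subgroup H) := hH.to_subgroup ⊤
  have hidx : ¬ p ∣ (⊤ : Subgroup H).index := by
    rw [Subgroup.index_top]
    exact (Fact.out : p.Prime).one_lt.ne' ∘ Nat.dvd_one.mp
  refine ⟨hT.toSylow hidx, ⊥, inferInstance, ?_⟩
  rw [IsPGroup.toSylow_coe]
  exact Subgroup.isComplement'_bot_top

/-- [Z-NONPC] -/
theorem no_npc [Finite T] (h : ZHyp β) (p : ℕ) [Fact p.Prime] (hp : p ∣ Nat.card T) :
    ¬ Cfsg.HasNormalPComplement p T := by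
  rintro ⟨P, N, hNn, hc⟩
  have hs := h.simple
  rcases hNn.eq_bot_or_eq_top with hb | ht
  · -- `N = ⊥`, so `P = ⊤`
    rw [hb, Subgroup.isComplement'_bot_left] at hc
    apply not_pgroup h p
    have hP := P.isPGroup'
    rw [hc] at hP
    intro g
    obtain ⟨k, hk⟩ := hP ⟨g, Subgroup.mem_top g⟩
    exact ⟨k, by simpa using congrArg Subtype.val hk⟩
  · -- `N = ⊤`, so `P = ⊥`
    rw [ht, Subgroup.isComplement'_top_left] at hc
    have := P.ne_bot_of_dvd_card hp
    exact this hc

end Z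

end Cfsg.Agent.Helper13.S93
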