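import Mathlib
import Cfsg.Agent.Lib.Helper13.S93Defs
import Cfsg.Agent.Lib.S93.S93ZBASIC

set_option autoImplicit false

namespace Cfsg.Agent.Helper13.S93

open MulAction Cfsg.Agent.S0721

universe u v

section Z

variable {T : Type u} {K : Type v} [Group T] [Group K] {β : K →* Equiv.Perm T}

/-- [Z-SSTAB] -/
theorem sstab_eq (h : ZHyp β) (z : T) (hz : z ≠ 1) (S : Subgroup T) (hS1 : S ≠ ⊥) (hS2 : S ≠ ⊤)
    (hle : stabB β z ≤ sstabB β S) : sstabB β S = stabB β z := by
  rcases h.maxi z hz _ hle with e | e
  · exact e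
  · exfalso
    haveI := h.simple
    have hn : S.Normal := by
      constructor
      intro n hn g
      obtain ⟨k, hk⟩ := h.inner g
      have hk' : k ∈ sstabB β S := by rw [e]; trivial
      rw [mem_sstabB] at hk'
      rw [← hk n]
      exact (hk' n).mpr hn
    rcases hn.eq_bot_or_eq_top with hb | ht
    · exact hS1 hb
    · exact hS2 ht

/-- [Z-SCENT] -/
theorem stab_le_sstab_centralizer (h : ZHyp β) (z : T) :
    stabB β z ≤ sstabB β (Subgroup.centralizer {z}) := by
  intro k hk
  rw [mem_stabB] at hk
  rw [mem_sstabB]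
  intro y
  rw [Subgroup.mem_centralizer_iff, Subgroup.mem_centralizer_iff]
  constructor
  · intro hy w hw
    rw [Set.mem_singleton_iff] at hw
    subst hw
    have := hy w rfl
    nth_rewrite 1 [← hk] at this
    nth_rewrite 2 [← hk] at this
    exact (beta_commute_iff h k w y).mp this
  · intro hy w hw
    rw [Set.mem_singleton_iff] at hw
    subst hw
    have := (beta_commute_iff h k w y).mpr (hy w rfl)
    rwa [hk] at this

/-- [Z-NORMLE] -/
theorem normalizer_le (h : ZHyp β) (z : T) (S : Subgroup T) (hS : sstabB β S = stabB β z)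
    (g : T) (hg : g ∈ Subgroup.normalizer (S : Set T)) : g * z = z * g := by
  obtain ⟨k, hk⟩ := h.inner g
  have hk' : k ∈ sstabB β S := by
    rw [mem_sstabB]
    intro y
    rw [hk]
    rw [Subgroup.mem_normalizer_iff] at hg
    exact (hg y).symm
  rw [hS] at hk'
  exact (inner_mem_stab β g z k hk).mp hk'

end Z

end Cfsg.Agent.Helper13.S93
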