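import Mathlib
import Cfsg.Agent.Lib.Helper13.S93Defs

/-!
# S3493 piece S93-ZSYLCENT, core: `C_T(z) = P` for a suitable `z ∈ Z(P)`
(the piece `centralizer_pgroup` enters as a hypothesis).
-/

set_option autoImplicit false

namespace Cfsg.Agent.Helper13.S93

open MulAction Cfsg.Agent.S0721

universe u v

section Z

variable {T : Type u} [Group T]

theorem s93_zsylcent_core [Finite T]
    (hcpg : ∀ x : T, x ≠ 1 →
      ∃ p : ℕ, p.Prime ∧ ∀ g : T, g * x = x * g → ∃ n, orderOf g = p ^ n)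
    (p : ℕ) [Fact p.Prime] (hp : p ∣ Nat.card T) (P : Sylow p T) :
    ∃ z : T, z ∈ (P : Subgroup T) ∧ z ≠ 1 ∧ ∀ g : T, g * z = z * g ↔ g ∈ (P : Subgroup T) := by
  have hpp : p.Prime := Fact.out
  have hPne : (P : Subgroup T) ≠ ⊥ := P.ne_bot_of_dvd_card hp
  haveI : Nontrivial (P : Subgroup T) := (Subgroup.nontrivial_iff_ne_bot _).2 hPne
  haveI := P.2.center_nontrivial
  obtain ⟨z', hz'⟩ := exists_ne (1 : Subgroup.center (P : Subgroup T))
  obtain ⟨z, hzP⟩ : ∃ z : T, z ∈ (P : Subgroup T) ∧ z ≠ 1 ∧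
      ∀ g ∈ (P : Subgroup T), g * z = z * g := by
    refine ⟨((z' : (P : Subgroup T)) : T), (z' : (P : Subgroup T)).2, ?_, ?_⟩
    · intro h1
      apply hz'
      apply Subtype.ext
      apply Subtype.ext
      exact h1
    · intro g hg
      have h1 := Subgroup.mem_center_iff.1 z'.2 ⟨g, hg⟩
      exact congrArg Subtype.val h1
  obtain ⟨hzP, hz1, hzc⟩ := hzP
  refine ⟨z, hzP, hz1, ?_⟩
  obtain ⟨q, hq, hqc⟩ := hcpg z hz1
  -- `q = p`
  have hqp : q = p := by
    obtain ⟨n, hn⟩ := hqc z rfl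
    obtain ⟨k, hk⟩ := (IsPGroup.iff_orderOf.1 P.2) ⟨z, hzP⟩
    have hk' : orderOf z = p ^ k := by
      rw [← hk]
      exact (Subgroup.orderOf_mk z hzP).symm
    have hn0 : n ≠ 0 := by
      rintro rfl
      rw [pow_zero, orderOf_eq_one_iff] at hn
      exact hz1 hn
    have h1 : q ∣ p ^ k := by
      rw [← hk', hn]
      exact dvd_pow_self q hn0
    exact (Nat.prime_dvd_prime_iff_eq hq hpp).1 (hq.dvd_of_dvd_pow h1)
  subst hqp
  have hC : IsPGroup q (Subgroup.centralizer ({z} : Set T)) := by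
    rintro ⟨g, hg⟩
    rw [Subgroup.mem_centralizer_singleton_iff] at hg
    obtain ⟨n, hn⟩ := hqc g hg
    refine ⟨n, ?_⟩
    apply Subtype.ext
    show g ^ q ^ n = 1
    rw [← hn]
    exact pow_orderOf_eq_one g
  have hPC : (P : Subgroup T) ≤ Subgroup.centralizer ({z} : Set T) := by
    intro g hg
    rw [Subgroup.mem_centralizer_singleton_iff]
    exact hzc g hg
  have hCP : Subgroup.centralizer ({z} : Set T) = (P : Subgroup T) := P.is_maximal' hC hPC
  intro g
  rw [← hCP, Subgroup.mem_centralizer_singleton_iff]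

end Z

end Cfsg.Agent.Helper13.S93
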