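import Mathlib
import Cfsg.Agent.Lib.Helper13.S93Defs
import Cfsg.Agent.Lib.S93.S93ZCPG
import Cfsg.Agent.Lib.S93.S93ZSYLCENTCore

/-!
# S3493 piece S93-ZSYLCENT: `C_T(z) = P` for a suitable `z ∈ Z(P)`, `P` a Sylow `p`-subgroup.
-/

set_option autoImplicit false

namespace Cfsg.Agent.Helper13.S93

open MulAction Cfsg.Agent.S0721

universe u v

section Z

variable {T : Type u} {K : Type v} [Group T] [Group K] {β : K →* Equiv.Perm T}

/-- [Z-SYLCENT] -/
theorem sylow_centralizer [Finite T] (h : ZHyp β) (p : ℕ) [Fact p.Prime] (hp : p ∣ Nat.card T)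
    (P : Sylow p T) :
    ∃ z : T, z ∈ (P : Subgroup T) ∧ z ≠ 1 ∧ ∀ g : T, g * z = z * g ↔ g ∈ (P : Subgroup T) :=
  s93_zsylcent_core (fun x hx => centralizer_pgroup h x hx) p hp P

end Z

end Cfsg.Agent.Helper13.S93
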