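import Mathlib
import Cfsg.Agent.Lib.Helper13.S93Defs
import Cfsg.Agent.Lib.S93.S93RDICH
import Cfsg.Agent.Lib.S93.S93B2INF

/-!
# S3493 piece S93-B2REG (core): in the swap case `N = T T₂`, the subgroup `T` is regular on `Ω`;
the statement of `b2_partner_proj_symm` is a hypothesis here
-/

set_option autoImplicit false
set_option linter.unusedVariables false

namespace Cfsg.Agent.Helper13.S93

open MulAction Cfsg.Agent.S0721

universe u v

section R

variable {G : Type u} [Group G] {Ω : Type v} [MulAction G Ω]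

variable {α : Ω} {N T : Subgroup G}

/-- the product set of two elementwise commuting subgroups, as a subgroup. -/
def s93_b2reg_prod (A B : Subgroup G) (hc : ∀ a ∈ A, ∀ b ∈ B, a * b = b * a) : Subgroup G where
  carrier := {x | ∃ a ∈ A, ∃ b ∈ B, x = a * b}
  one_mem' := ⟨1, A.one_mem, 1, B.one_mem, by simp⟩
  mul_mem' := by
    rintro x y ⟨a, ha, b, hb, rfl⟩ ⟨a', ha', b', hb', rfl⟩
    refine ⟨a * a', A.mul_mem ha ha', b * b', B.mul_mem hb hb', ?_⟩
    calc a * b * (a' * b') = a * (b * a') * b' := by group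
      _ = a * (a' * b) * b' := by rw [hc a' ha' b hb]
      _ = a * a' * (b * b') := by group
  inv_mem' := by
    rintro x ⟨a, ha, b, hb, rfl⟩
    refine ⟨a⁻¹, A.inv_mem ha, b⁻¹, B.inv_mem hb, ?_⟩
    rw [mul_inv_rev, hc a⁻¹ (A.inv_mem ha) b⁻¹ (B.inv_mem hb)]

theorem s93_b2reg_mem_sup (A B : Subgroup G) (hc : ∀ a ∈ A, ∀ b ∈ B, a * b = b * a) (x : G)
    (hx : x ∈ A ⊔ B) : ∃ a ∈ A, ∃ b ∈ B, x = a * b := by
  have hle : A ⊔ B ≤ s93_b2reg_prod A B hc := by
    apply sup_le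
    · intro a ha
      exact ⟨a, ha, 1, B.one_mem, by simp⟩
    · intro b hb
      exact ⟨1, A.one_mem, b, hb, by simp⟩
  exact hle hx

theorem s93_b2reg_core [Finite G] [FaithfulSMul G Ω] (h : BCtx α N T)
    (hproj : ∀ t ∈ T, Proj α N T t) (T₂ : Subgroup G) (hp : IsPartner α T T₂)
    (hsymm : ∀ u ∈ T₂, ∃ s ∈ T, s * u ∈ stabilizer G α)
    (hN : T ⊔ T₂ = N) : ∀ ω : Ω, ∃! t : ↥T, (t : G) • α = ω := by
  intro ω
  have hinf := b2_inf h hproj
  have hp' := hp
  obtain ⟨hne, ⟨g, hg⟩, -⟩ := hp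
  -- `T` and `T₂` commute elementwise
  have hcomm : ∀ a ∈ T, ∀ b ∈ T₂, a * b = b * a := by
    rcases dich h 1 g with heq | ⟨-, hc⟩
    · exfalso
      apply hne
      rw [hg, ← heq, cj_one]
    · intro a ha b hb
      apply hc a _ b _
      · rw [cj_one]; exact ha
      · rw [← hg]; exact hb
  -- `N` is transitive
  have hNn : N.Normal := h.normal
  have hprim : IsPreprimitive G Ω := h.prim
  have htr : IsPretransitive N Ω := Cfsg.Agent.S3680.trans_of_normal N h.ne_bot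
  obtain ⟨n, hn⟩ := htr.exists_smul_eq α ω
  have hn' : (n : G) • α = ω := hn
  have hnmem : (n : G) ∈ T ⊔ T₂ := by rw [hN]; exact n.2
  obtain ⟨t, ht, u, hu, hntu⟩ := s93_b2reg_mem_sup T T₂ hcomm (n : G) hnmem
  obtain ⟨s, hs, hsu⟩ := hsymm u hu
  rw [mem_stabilizer_iff, mul_smul] at hsu
  have hua : u • α = s⁻¹ • α := by
    rw [eq_inv_smul_iff, hsu]
  refine ⟨⟨t * s⁻¹, T.mul_mem ht (T.inv_mem hs)⟩, ?_, ?_⟩
  · show (t * s⁻¹) • α = ω
    rw [← hn', hntu, mul_smul, mul_smul, hua]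
  · intro t' ht'
    have ht'' : (t' : G) • α = ω := ht'
    have h1 : ((t * s⁻¹)⁻¹ * (t' : G)) ∈ stabilizer G α ⊓ T := by
      refine Subgroup.mem_inf.2 ⟨?_, T.mul_mem (T.inv_mem (T.mul_mem ht (T.inv_mem hs))) t'.2⟩
      rw [mem_stabilizer_iff, mul_smul, ht'', inv_smul_eq_iff, ← hn', hntu, mul_smul, mul_smul, hua]
    rw [hinf, Subgroup.mem_bot] at h1
    apply Subtype.ext
    show (t' : G) = t * s⁻¹
    exact (eq_of_inv_mul_eq_one h1).symm

end R

end Cfsg.Agent.Helper13.S93
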