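import Mathlib
import Cfsg.Agent.Lib.Helper13.S93Defs
import Cfsg.Agent.Lib.S93.S93B2PSYMM
import Cfsg.Agent.Lib.S93.S93B2REGCore

/-!
# S3493 piece S93-B2REG: in the swap case `N = T T₂`, the subgroup `T` is regular on `Ω`
-/

set_option autoImplicit false

namespace Cfsg.Agent.Helper13.S93

open MulAction Cfsg.Agent.S0721

universe u v

section R

variable {G : Type u} [Group G] {Ω : Type v} [MulAction G Ω]

variable {α : Ω} {N T : Subgroup G}

/-- [B2-SWAPREG] -/
theorem b2_swap_regular [Finite G] [FaithfulSMul G Ω] (h : BCtx α N T)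
    (hproj : ∀ t ∈ T, Proj α N T t) (T₂ : Subgroup G) (hp : IsPartner α T T₂)
    (hN : T ⊔ T₂ = N) : ∀ ω : Ω, ∃! t : ↥T, (t : G) • α = ω :=
  s93_b2reg_core h hproj T₂ hp (b2_partner_proj_symm h hproj T₂ hp) hN

end R

end Cfsg.Agent.Helper13.S93
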